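import Cfsg.Agent.Lib.Sporadic.JankoFourType.Perfect
import Cfsg.Agent.Lib.LocalEvenB.SharedCentralizer
import Cfsg.Agent.Lib.Coprime.Generation

/-!
# Groups of Janko-four type: the normaliser of `P` lies in the centraliser of `z`

`z` is the only big involution among the 32 elements of `A` centralised by `P` that is a product of a small one
with a small one in no way; so it is isolated in `C(P)`, and the odd core of `C(P)` is centralised by `z` because
small involutions have their centralisers inside `N(A)`.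
-/

set_option autoImplicit false
set_option linter.style.haveILetI false
set_option linter.unusedSectionVars false
set_option maxRecDepth 40000

namespace CfsgLib.Sporadic.JankoFourType

open scoped commutatorElement
open Cfsg Subgroup CfsgLib.Sporadic.LargeFischer CfsgLib.Sporadic.LargeFischer.Hexa

theorem map_conj_eq_of_le {G : Type*} [Group G] [Finite G] {H : Subgroup G} {g : G}
    (h : ∀ a ∈ H, g * a * g⁻¹ ∈ H) : H.map (MulAut.conj g).toMonoidHom = H := by
  refine eq_of_le_of_card_ge ?_ ?_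
  · rintro _ ⟨a, ha, rfl⟩
    exact h a ha
  · rw [card_map_of_injective (f := (MulAut.conj g).toMonoidHom) (MulAut.conj g).injective]

theorem mem_normalizer_of_map_le {G : Type*} [Group G] [Finite G] {H : Subgroup G} {g : G}
    (h : ∀ a ∈ H, g * a * g⁻¹ ∈ H) : g ∈ normalizer (H : Set G) := by
  refine mem_normalizer_iff.2 fun a => ⟨h a, fun ha => ?_⟩
  obtain ⟨b, hb, e⟩ := (map_conj_eq_of_le h).symm ▸ ha
  rwa [← (MulAut.conj g).injective e]

theorem elem_map {G : Type*} [Group G] {A : Subgroup G} (hA : IsElementaryAbelian 2 A) (g : G) :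
    IsElementaryAbelian 2 (A.map (MulAut.conj g).toMonoidHom) := by
  refine ⟨⟨⟨?_⟩⟩, ?_⟩
  · rintro ⟨_, a, ha, rfl⟩ ⟨_, b, hb, rfl⟩
    have := congrArg Subtype.val (hA.1.is_comm.comm (⟨a, ha⟩ : ↥A) ⟨b, hb⟩)
    exact Subtype.ext ((map_mul _ _ _).symm.trans ((congrArg _ this).trans (map_mul _ _ _)))
  · rintro _ ⟨a, ha, rfl⟩
    rw [← map_pow, hA.2 a ha, map_one]

/-- Subgroups of order three are conjugate in a group of order dividing `3·2¹³`. -/
theorem exists_conj_three_dvd {K : Type*} [Group K] [Finite K] (hK : Nat.card K ∣ 3 * 2 ^ 13) {A B : Subgroup K}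
    (hA : Nat.card A = 3) (hB : Nat.card B = 3) : ∃ g : K, A.map (MulAut.conj g).toMonoidHom = B := by
  haveI : Fact (Nat.Prime 3) := ⟨Nat.prime_three⟩
  have hS : ∀ {C : Subgroup K}, Nat.card C = 3 → ∃ S : Sylow 3 K, (S : Subgroup K) = C := fun {C} hC => by
    obtain ⟨S, hS⟩ := (IsPGroup.of_card (n := 1) (by rw [hC, pow_one]) : IsPGroup 3 ↥C).exists_le_sylow
    refine ⟨S, (eq_of_le_of_card_ge hS ?_).symm⟩
    obtain ⟨k, hk⟩ := IsPGroup.iff_card.1 S.isPGroup'
    have h1 : 3 ^ k ∣ 3 * 2 ^ 13 := hk ▸ (card_subgroup_dvd_card _).trans hK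
    have h2 : k ≤ 1 := by
      by_contra hk'
      have := (pow_dvd_pow 3 (show 2 ≤ k by omega)).trans h1
      norm_num at this
    rw [hk, hC]
    exact (Nat.pow_le_pow_right (by norm_num) h2).trans_eq (pow_one 3)
  obtain ⟨S, rfl⟩ := hS hA
  obtain ⟨T, rfl⟩ := hS hB
  obtain ⟨g, rfl⟩ := MulAction.exists_smul_eq K S T
  exact ⟨g, rfl⟩

/-- The involutions of `M₂₂` form one class. -/
theorem M22_inv_conj {u v : ↥Cfsg.Spor.M22} (hu : orderOf u = 2) (hv : orderOf v = 2) : IsConj u v := by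
  classical
  haveI := simple_M22
  letI := Fintype.ofFinite ↥Cfsg.Spor.M22
  obtain ⟨T⟩ := CfsgLib.KGroups.M22Column.exists_table (G := ↥Cfsg.Spor.M22) card_M22
  exact (T.inv_conj u hu).symm.trans (T.inv_conj v hv)

variable {G : Type*} [Group G] [Finite G] {z : G} {P : Subgroup G}
  {Q : Subgroup (centralizer ({z} : Set G))} [Q.Normal]
  {π : G → V6} {ψ : ↥(centralizer ({z} : Set G)) →* (V6 ≃ₗ[ZMod 2] V6)}
  {x : ↥(centralizer ({z} : Set G))}

section

variable (hJ : IsOfJankoFourTypeWith z P)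
include hJ

theorem zz : z * z = 1 := by rw [← pow_two, ← orderOf_z hJ]; exact pow_orderOf_eq_one z

/-- The only involution of `⟨z⟩ × P` is `z`. -/
theorem sG_inv {a : G} (ha : a ∈ sG z P) (h2 : a * a = 1) : a = 1 ∨ a = z := by
  have hn : P ≤ normalizer (zpowers z : Set G) := le_trans (fun q hq => mem_centralizer_iff.2 fun b hb => by
    obtain ⟨i, rfl⟩ := hb
    exact ((z_comm_P hJ hq).zpow_left i).eq) (centralizer_le_normalizer _)
  rw [← SetLike.mem_coe, coe_mul_of_right_le_normalizer_left _ _ hn] at ha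
  obtain ⟨w, hw, q, hq, rfl⟩ := Set.mem_mul.1 ha
  have hw' : w = 1 ∨ w = z := by
    obtain ⟨i, rfl⟩ := hw
    rcases Int.even_or_odd' i with ⟨j, rfl | rfl⟩
    · left
      show z ^ (2 * j) = 1
      rw [zpow_mul, zpow_two, zz hJ, one_zpow]
    · right
      show z ^ (2 * j + 1) = z
      rw [zpow_add, zpow_mul, zpow_two, zz hJ, one_zpow, one_mul, zpow_one]
  have hq2 : q * q = 1 := by
    rcases hw' with rfl | rfl
    · rwa [one_mul] at h2
    · have e := (z_comm_P hJ hq).eq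
      rwa [show w * q * (w * q) = w * (q * w) * q by group, ← e, ← mul_assoc, zz hJ, one_mul] at h2
  have hq3 : q ^ 3 = 1 := by
    have := congrArg Subtype.val (pow_card_eq_one' (x := (⟨q, hq⟩ : ↥P)))
    rwa [card_P hJ] at this
  have hq1 : q = 1 := by rwa [pow_succ, pow_two, hq2, one_mul] at hq3
  rw [hq1, mul_one]
  exact hw'

end

variable (F : Frame z Q π ψ x) (hP : P = zpowers (x : G))
  {c : Fin 4 → ↥(centralizer ({z} : Set G))} {L : Lifts ψ x c}
  (hJ : IsOfJankoFourTypeWith z P) (hN : Normal F L)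

include hP in
theorem x_norm {a : G} (ha : a ∈ F.asub L) : (x : G) * a * (x : G)⁻¹ ∈ F.asub L := by
  obtain ⟨n, hn, rfl⟩ := ha
  exact ⟨_, sX_lt n hn, F.el_scal L hn⟩

include hP hN in
/-- An element normalising `A` and `P` fixes `z`. -/
theorem fix_z {m : G} (hmA : m ∈ normalizer (F.asub L : Set G)) (hmP : m ∈ normalizer (P : Set G)) :
    m * z * m⁻¹ = z := by
  obtain ⟨hex, hv16, h0, h16, -⟩ := big_facts
  have hz : F.el L 16 = z := el_sixteen F L
  have htr : ∀ (g : G), g ∈ normalizer (F.asub L : Set G) → g ∈ normalizer (P : Set G) → ∀ n, n < 32 →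
      ∃ k, k < 32 ∧ g * F.el L n * g⁻¹ = F.el L k := by
    intro g hgA hgP n hn
    obtain ⟨k, hk, e⟩ := (mem_normalizer_iff.1 hgA _).1 (⟨n, by omega, rfl⟩ : F.el L n ∈ F.asub L)
    refine ⟨k, (el_mem_cG_iff F hP L hk).1 ⟨mem_hG.2 (F.el_cent L k), mem_centralizer_iff.2 fun p hp => ?_⟩, e⟩
    have h1 : g⁻¹ * p * g ∈ P := by
      have := (mem_normalizer_iff.1 (inv_mem hgP) p).1 hp
      rwa [inv_inv] at this
    have h2 := mem_centralizer_iff.1 ((el_mem_cG_iff F hP L (show n < 2048 by omega)).2 hn).2 _ h1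
    rw [← e]
    calc p * (g * F.el L n * g⁻¹) = g * ((g⁻¹ * p * g) * F.el L n) * g⁻¹ := by group
      _ = g * (F.el L n * (g⁻¹ * p * g)) * g⁻¹ := by rw [h2]
      _ = g * F.el L n * g⁻¹ * p := by group
  have hconj : ∀ (g a : G), IsConj z a ↔ IsConj z (g * a * g⁻¹) := fun g a =>
    ⟨fun h => h.trans (isConj_iff.2 ⟨g, rfl⟩), fun h => h.trans (isConj_iff.2 ⟨g⁻¹, by group⟩)⟩
  obtain ⟨b, hb, eb⟩ := htr m hmA hmP 16 (by norm_num)
  rw [hz] at eb
  have hbc : IsConj z (F.el L b) := isConj_iff.2 ⟨m, eb⟩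
  by_contra hne
  have hb16 : b ≠ 16 := fun e => hne (by rw [eb, e, hz])
  have hbD : inD sgnB b = false := by
    by_contra h
    exact (hN.small b (by omega)).2 (Or.inr (by simpa using h)) hbc
  have hb0 : b ≠ 0 := fun e => (hN.small b (by omega)).2 (Or.inl e) hbc
  obtain ⟨v, hv, hbv⟩ := hex ⟨b, hb⟩ hb0 hb16 hbD
  obtain ⟨w, hw, ew⟩ := htr m⁻¹ (inv_mem hmA) (inv_mem hmP) v.1 v.2
  have hwD : inD sgnB w = true := by
    have h1 : ¬ IsConj z (F.el L w) := by
      rw [← ew, ← hconj]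
      exact (hN.small v.1 (by omega)).2 (Or.inr hv)
    refine ((hN.small w (by omega)).1 h1).resolve_left fun e => ?_
    rw [e, F.el_zero L, conj_eq_one_iff] at ew
    have := F.el_inj L (show v.1 < 2048 by omega) (by norm_num) (ew.trans (F.el_zero L).symm)
    rw [this, h0] at hv
    exact Bool.false_ne_true hv
  obtain ⟨hw1, hw2⟩ := hv16 ⟨w, hw⟩ hwD
  have hlt : b ^^^ v.1 < 2048 := (Nat.xor_lt_two_pow (n := 5) hb v.2).trans (by norm_num)
  have hlt' : 16 ^^^ w < 2048 := (Nat.xor_lt_two_pow (n := 5) (by norm_num) hw).trans (by norm_num)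
  have e : m⁻¹ * F.el L (b ^^^ v.1) * m = F.el L (16 ^^^ w) := by
    rw [F.el_xor L (show b < 2048 by omega) (show v.1 < 2048 by omega), F.el_xor L (by norm_num) (show w < 2048 by omega),
      ← eb, hz, ← ew]
    group
  have h1 : ¬ IsConj z (F.el L (16 ^^^ w)) := by
    rw [← e]
    have h2 := (hN.small _ hlt).2 (Or.inr hbv)
    rw [hconj m⁻¹, inv_inv] at h2
    exact h2
  rcases (hN.small _ hlt').1 h1 with h | h
  · exact hw2 h
  · rw [hw1] at h
    exact Bool.false_ne_true h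

include hP hJ in
/-- Every involution of `C_H(P)` is conjugate to one of the 32 elements. -/
theorem exists_conj_el {a : G} (ha : a ∈ cG z P) (h2 : a * a = 1) (h1 : a ≠ 1) :
    ∃ y ∈ cG z P, y * a * y⁻¹ ∈ F.asub L := by
  obtain ⟨χ, hs, hk⟩ := exists_psi hJ
  have hker : ∀ b : ↥(cG z P), χ b = 1 ↔ (b : G) ∈ sG z P := fun b => by
    rw [← MonoidHom.mem_ker, hk, mem_subgroupOf]
  set v : ↥(cG z P) := ⟨F.el L 1, (el_mem_cG_iff F hP L (by norm_num)).2 (by norm_num)⟩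
  have hv2 : (v : G) * v = 1 := by
    show F.el L 1 * F.el L 1 = 1
    rw [← F.el_xor L (by norm_num) (by norm_num)]
    exact F.el_zero L
  have hχv : χ v ≠ 1 := fun h => by
    rcases sG_inv hJ ((hker v).1 h) hv2 with e | e
    · exact absurd (F.el_inj L (by norm_num) (by norm_num) (e.trans (F.el_zero L).symm)) one_ne_zero
    · exact absurd (F.el_inj L (by norm_num) (by norm_num) (e.trans (el_sixteen F L).symm)) (by norm_num)
  by_cases hχa : χ ⟨a, ha⟩ = 1
  · refine ⟨1, one_mem _, ?_⟩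
    have e : a = z := (sG_inv hJ (show a ∈ sG z P from (hker ⟨a, ha⟩).1 hχa) h2).resolve_left h1
    rw [e]
    simpa using F.z_mem_asub L
  haveI : Fact (Nat.Prime 2) := ⟨Nat.prime_two⟩
  obtain ⟨m, hm⟩ := isConj_iff.1 (M22_inv_conj
    (orderOf_eq_prime (x := χ ⟨a, ha⟩) (by rw [← map_pow, show (⟨a, ha⟩ : ↥(cG z P)) ^ 2 = 1 from
      Subtype.ext (by push_cast; rw [pow_two, h2]), map_one]) hχa)
    (orderOf_eq_prime (x := χ v) (by rw [← map_pow, show v ^ 2 = 1 from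
      Subtype.ext (by push_cast; rw [pow_two, hv2]), map_one]) hχv))
  obtain ⟨y, rfl⟩ := hs m
  set b : ↥(cG z P) := y * ⟨a, ha⟩ * y⁻¹ with hb
  have hb2 : (b : G) * b = 1 := by
    have : (b : G) * b = (y : G) * (a * a) * (y : G)⁻¹ := by rw [hb]; push_cast; group
    rw [this, h2]; group
  refine ⟨y, y.2, ?_⟩
  show (b : G) ∈ F.asub L
  have hsb : (v : G)⁻¹ * b ∈ sG z P := by
    have := (hker (v⁻¹ * b)).1 (by rw [map_mul, map_inv, hb, map_mul, map_mul, map_inv, hm, inv_mul_cancel])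
    exact this
  set s := (v : G)⁻¹ * b with hs'
  have hbs : (b : G) = v * s := (mul_inv_cancel_left _ _).symm
  have hs2 : s * s = 1 := by
    have hc : (v : G) * s = s * v := sG_central hJ hsb v.2
    have h4 : (v : G) * s * (v * s) = 1 := by rw [← hbs]; exact hb2
    clear_value s
    rwa [show (v : G) * s * (v * s) = v * (s * v) * s by group, ← hc, ← mul_assoc, hv2, one_mul] at h4
  rw [hbs]
  refine mul_mem ⟨1, by norm_num, rfl⟩ ?_
  rcases sG_inv hJ hsb hs2 with e | e <;> rw [e]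
  · exact one_mem _
  · exact F.z_mem_asub L

include hP hJ hN in
/-- An element of `C(P)` that moves `z` into `A` fixes it. -/
theorem fixes_of_mem (hU : UniqAb G) {g : G} (hgx : Commute g (x : G)) (hga : g * z * g⁻¹ ∈ F.asub L) :
    g * z * g⁻¹ = z := by
  haveI : Fact (Nat.Prime 2) := ⟨Nat.prime_two⟩
  set A := F.asub L with hA
  set A' := A.map (MulAut.conj g⁻¹).toMonoidHom with hA'
  have hmemA' : ∀ {a : G}, a ∈ A' ↔ g * a * g⁻¹ ∈ A := fun {a} => by
    rw [hA', show a = (MulAut.conj g⁻¹).toMonoidHom (g * a * g⁻¹) by simp [MulAut.conj_apply]; group,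
      mem_map_iff_mem (MulAut.conj g⁻¹).injective]
    rw [show g * (MulAut.conj g⁻¹).toMonoidHom (g * a * g⁻¹) * g⁻¹ = g * a * g⁻¹ by simp [MulAut.conj_apply]; group]
  have hzA' : z ∈ A' := hmemA'.2 hga
  have hle : ∀ {B : Subgroup G}, IsElementaryAbelian 2 B → z ∈ B → B ≤ hG z := fun {B} hB hzB b hb =>
    mem_hG.2 (congrArg Subtype.val (hB.1.is_comm.comm (⟨b, hb⟩ : ↥B) ⟨z, hzB⟩))
  have helA := F.isElementaryAbelian_asub L
  have helA' : IsElementaryAbelian 2 A' := elem_map helA _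
  have hAH := hle helA (F.z_mem_asub L)
  have hA'H := hle helA' hzA'
  have hcard : Nat.card A = 2 ^ 11 := F.card_asub L
  have hcard' : Nat.card A' = 2 ^ 11 := by
    rw [hA', card_map_of_injective (f := (MulAut.conj g⁻¹).toMonoidHom) (MulAut.conj g⁻¹).injective, hcard]
  have hpg : ∀ {B : Subgroup G}, B ≤ hG z → Nat.card B = 2 ^ 11 → IsPGroup 2 ↥(B.subgroupOf (hG z)) :=
    fun hB hc => IsPGroup.of_card (by rw [Nat.card_congr (subgroupOfEquivOfLe hB).toEquiv, hc])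
  obtain ⟨S, hS⟩ := (hpg hAH hcard).exists_le_sylow
  obtain ⟨S', hS'⟩ := (hpg hA'H hcard').exists_le_sylow
  obtain ⟨⟨h, hh⟩, hhS⟩ := MulAction.exists_smul_eq ↥(hG z) S S'
  have hAh : A.map (MulAut.conj h).toMonoidHom = A' := by
    refine (hU ((S' : Subgroup ↥(hG z)).map (hG z).subtype) (S'.isPGroup'.map _) A' _
      (fun a ha => ⟨⟨a, hA'H ha⟩, hS' ha, rfl⟩) ?_ helA' (elem_map helA _) hcard').2
      (by rw [card_map_of_injective (f := (MulAut.conj h).toMonoidHom) (MulAut.conj h).injective, hcard])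
    rintro _ ⟨a, ha, rfl⟩
    refine ⟨⟨h, hh⟩ * ⟨a, hAH ha⟩ * ⟨h, hh⟩⁻¹, ?_, rfl⟩
    rw [← hhS]
    exact ⟨⟨a, hAH ha⟩, hS ha, rfl⟩
  obtain ⟨N, φ, hEN, hPN, hNH, -, hker, hc⟩ := exists_N hJ
  haveI : (N.subgroupOf (hG z)).Normal := hker ▸ inferInstance
  set K := N ⊓ normalizer (A : Set G) with hK
  have hxP : (x : G) ∈ P := hP ▸ mem_zpowers _
  have hP3 := card_P hJ
  have hinjh : Function.Injective (MulAut.conj h⁻¹).toMonoidHom := (MulAut.conj h⁻¹).injective
  have hPK : P ≤ K := by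
    refine le_inf hPN ?_
    rw [hP, zpowers_le]
    exact mem_normalizer_of_map_le fun a ha => x_norm F hP ha
  have hP'K : P.map (MulAut.conj h⁻¹).toMonoidHom ≤ K := by
    rintro _ ⟨p, hp, rfl⟩
    refine ⟨mem_subgroupOf.1 ((inferInstance : (N.subgroupOf (hG z)).Normal).conj_mem ⟨p, hNH (hPN hp)⟩
      (mem_subgroupOf.2 (hPN hp)) ⟨h⁻¹, inv_mem hh⟩), mem_normalizer_of_map_le fun a ha => ?_⟩
    have h1 : h * a * h⁻¹ ∈ A' := hAh ▸ ⟨a, ha, rfl⟩
    have h2 : p * (h * a * h⁻¹) * p⁻¹ ∈ A' := by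
      rw [hmemA']
      have hgp : Commute g p := by
        have := mem_centralizer_iff.1 ((mem_centralizer_P hP).2 hgx) p hp
        exact this.symm
      rw [show g * (p * (h * a * h⁻¹) * p⁻¹) * g⁻¹ = g * p * (h * a * h⁻¹) * (g * p)⁻¹ by group, hgp.eq,
        show p * g * (h * a * h⁻¹) * (p * g)⁻¹ = p * (g * (h * a * h⁻¹) * g⁻¹) * p⁻¹ by group]
      exact ((mem_normalizer_iff.1 (hPK hp).2 _).1 (hmemA'.1 h1))
    rw [← hAh] at h2
    obtain ⟨b, hb, e⟩ := h2
    show h⁻¹ * p * h⁻¹⁻¹ * a * (h⁻¹ * p * h⁻¹⁻¹)⁻¹ ∈ A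
    rwa [show h⁻¹ * p * h⁻¹⁻¹ * a * (h⁻¹ * p * h⁻¹⁻¹)⁻¹ = h⁻¹ * (p * (h * a * h⁻¹) * p⁻¹) * h by group, ← e,
      show h⁻¹ * (MulAut.conj h).toMonoidHom b * h = b by simp [MulAut.conj_apply]; group]
  obtain ⟨n, hn⟩ := exists_conj_three_dvd (K := ↥K) (hc ▸ card_dvd_of_le inf_le_left)
    (A := P.subgroupOf K) (B := (P.map (MulAut.conj h⁻¹).toMonoidHom).subgroupOf K)
    (by rw [Nat.card_congr (subgroupOfEquivOfLe hPK).toEquiv, hP3])
    (by rw [Nat.card_congr (subgroupOfEquivOfLe hP'K).toEquiv, card_map_of_injective hinjh, hP3])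
  set l := h * (n : G) with hl
  have hlP : l ∈ normalizer (P : Set G) := mem_normalizer_of_map_le fun p hp => by
    have h1 : n * ⟨p, hPK hp⟩ * n⁻¹ ∈ (P.map (MulAut.conj h⁻¹).toMonoidHom).subgroupOf K :=
      hn ▸ ⟨⟨p, hPK hp⟩, hp, rfl⟩
    obtain ⟨q, hq, e⟩ := mem_subgroupOf.1 h1
    push_cast at e
    have : l * p * l⁻¹ = h * (n * p * (n : G)⁻¹) * h⁻¹ := by rw [hl]; group
    rw [this, ← e, show h * (MulAut.conj h⁻¹).toMonoidHom q * h⁻¹ = q by simp [MulAut.conj_apply]; group]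
    exact hq
  have hlz : l * z = z * l := mem_hG.1 (mul_mem hh (hNH n.2.1))
  set m := g * l with hm
  have hmz : m * z * m⁻¹ = g * z * g⁻¹ := by
    rw [hm, show g * l * z * (g * l)⁻¹ = g * (l * z) * l⁻¹ * g⁻¹ by group, hlz]; group
  have hmA : m ∈ normalizer (A : Set G) := mem_normalizer_of_map_le fun a ha => by
    have h1 : l * a * l⁻¹ ∈ A' := by
      rw [← hAh]
      exact ⟨(n : G) * a * (n : G)⁻¹, (mem_normalizer_iff.1 n.2.2 a).1 ha, by simp [hl, MulAut.conj_apply]; group⟩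
    rw [show m * a * m⁻¹ = g * (l * a * l⁻¹) * g⁻¹ by rw [hm]; group]
    exact hmemA'.1 h1
  have hmP : m ∈ normalizer (P : Set G) :=
    mul_mem (centralizer_le_normalizer _ ((mem_centralizer_P hP).2 hgx)) hlP
  rw [← hmz, fix_z F hP hN hmA hmP]

include hP hJ hN in
/-- `z` is isolated in the centraliser of `P`. -/
theorem isolated (hU : UniqAb G) {g : G} (hgx : Commute g (x : G)) (hc : Commute z (g * z * g⁻¹)) :
    g * z * g⁻¹ = z := by
  have hzx : Commute z (x : G) := (F.z_comm' x).symm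
  have ha : g * z * g⁻¹ ∈ cG z P :=
    (mem_cG_iff hP).2 ⟨hc.symm.eq, (hgx.mul_left hzx).mul_left hgx.inv_left⟩
  obtain ⟨y, hy, hyA⟩ := exists_conj_el F hP hJ ha
    (by rw [show g * z * g⁻¹ * (g * z * g⁻¹) = g * (z * z) * g⁻¹ by group, zz hJ]; group)
    (fun e => z_ne hJ (conj_eq_one_iff.1 e))
  have h1 := fixes_of_mem F hP hJ hN hU (g := y * g) (((mem_cG_iff hP).1 hy).2.mul_left hgx)
    (by rwa [show y * g * z * (y * g)⁻¹ = y * (g * z * g⁻¹) * y⁻¹ by group])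
  rw [show y * g * z * (y * g)⁻¹ = y * (g * z * g⁻¹) * y⁻¹ by group, mul_inv_eq_iff_eq_mul,
    ← ((mem_cG_iff hP).1 hy).1] at h1
  exact mul_left_cancel h1

include hP hJ hN in
/-- The normaliser of `P` lies in the centraliser of `z`. -/
theorem normalizer_le (hU : UniqAb G)
    (hCT : ∀ t ∈ F.asub L, t ≠ 1 → ¬ IsConj z t → centralizer ({t} : Set G) ≤ normalizer (F.asub L : Set G)) :
    normalizer (P : Set G) ≤ hG z := by
  obtain ⟨-, -, h0, -, h1, h2, h3⟩ := big_facts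
  set Y := centralizer (P : Set G) with hY
  set O := (Cfsg.oddCore ↥Y).map Y.subtype with hO
  have hOY : O ≤ Y := map_subtype_le _
  have hOodd : Odd (Nat.card O) := by
    rw [hO, card_map_of_injective (subtype_injective _)]
    exact CfsgLib.Involution.ZStar.odd_card_oddCore
  have hYO : ∀ y ∈ Y, ∀ o ∈ O, y * o * y⁻¹ ∈ O := by
    rintro y hy _ ⟨o, ho, rfl⟩
    exact ⟨⟨y, hy⟩ * o * ⟨y, hy⟩⁻¹, CfsgLib.Involution.ZStar.oddCore_normal.conj_mem o ho _, rfl⟩
  have hzY : z ∈ Y := (z_mem_cG hJ).2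
  -- the four-group of small involutions
  let V : Subgroup G :=
    { carrier := {a | ∃ n, n < 4 ∧ a = F.el L n}
      one_mem' := ⟨0, by norm_num, (F.el_zero L).symm⟩
      mul_mem' := fun {a b} ⟨n, hn, ea⟩ ⟨m, hm, eb⟩ => ⟨n ^^^ m, Nat.xor_lt_two_pow (n := 2) hn hm, by
        rw [F.el_xor L (by omega) (by omega), ea, eb]⟩
      inv_mem' := fun {a} ⟨n, hn, ea⟩ => ⟨n, hn, by
        refine inv_eq_of_mul_eq_one_left ?_
        rw [ea, ← F.el_xor L (by omega) (by omega), Nat.xor_self, F.el_zero L]⟩ }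
  have hVA : ∀ a ∈ V, a ∈ F.asub L := fun a ⟨n, hn, e⟩ => ⟨n, by omega, e⟩
  have hVY : V ≤ Y := fun a ⟨n, hn, e⟩ =>
    e ▸ ((el_mem_cG_iff F hP L (show n < 2048 by omega)).2 (by omega)).2
  haveI : IsMulCommutative ↥V :=
    ⟨⟨fun a b => Subtype.ext (F.asub_comm L (hVA _ a.2) (hVA _ b.2))⟩⟩
  have hVcard : Nat.card V = 4 := by
    let f : Fin 4 → ↥V := fun n => ⟨F.el L n.1, n.1, n.2, rfl⟩
    rw [← Nat.card_eq_of_bijective f ⟨fun a b e => Fin.ext (F.el_inj L (by omega) (by omega) (congrArg Subtype.val e)),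
      fun ⟨a, n, hn, e⟩ => ⟨⟨n, hn⟩, Subtype.ext e.symm⟩⟩, Nat.card_eq_fintype_card, Fintype.card_fin]
  have hnc : ¬ IsCyclic ↥V := fun hc => by
    obtain ⟨a, ha⟩ := IsCyclic.exists_ofOrder_eq_natCard (α := ↥V)
    have : orderOf a ∣ 2 := orderOf_dvd_of_pow_eq_one (Subtype.ext (by
      push_cast; rw [pow_two, F.asub_sq L (hVA _ a.2)]))
    rw [ha, hVcard] at this
    norm_num at this
  have hOz : ∀ o ∈ O, Commute o z := by
    have hle : O ≤ hG z := by
      rw [← CfsgLib.Coprime.iSup_centralizer_singleton (A := V) (K := O) hnc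
        (fun a ha => mem_normalizer_of_map_le fun o ho => hYO a (hVY ha) o ho)
        (by rw [hVcard, show (4 : ℕ) = 2 ^ 2 from rfl]
            exact Nat.Coprime.pow_left _ (Nat.coprime_two_left.2 hOodd))]
      refine iSup₂_le fun a ha w hw => ?_
      obtain ⟨⟨n, hn, rfl⟩, ha1⟩ := ha
      have hn0 : n ≠ 0 := fun e => ha1 (by rw [e, F.el_zero L])
      have hD : inD sgnB n = true := by
        rcases (by omega : n = 1 ∨ n = 2 ∨ n = 3) with rfl | rfl | rfl
        exacts [h1, h2, h3]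
      have hwA : w ∈ normalizer (F.asub L : Set G) :=
        hCT _ ⟨n, by omega, rfl⟩ ha1 ((hN.small n (by omega)).2 (Or.inr hD)) hw.2
      have hA1 : w * z * w⁻¹ * z⁻¹ ∈ F.asub L :=
        mul_mem ((mem_normalizer_iff.1 hwA z).1 (F.z_mem_asub L)) (inv_mem (F.z_mem_asub L))
      have hO1 : w * z * w⁻¹ * z⁻¹ ∈ O := by
        rw [mul_assoc w, mul_assoc w]
        exact mul_mem hw.1 (hYO z hzY _ (inv_mem hw.1))
      have hsq : (w * z * w⁻¹ * z⁻¹) ^ 2 = 1 := by rw [pow_two]; exact F.asub_sq L hA1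
      have hcop := pow_gcd_eq_one.2 ⟨hsq,
        (congrArg Subtype.val (pow_card_eq_one' (x := (⟨_, hO1⟩ : ↥O))) : (w * z * w⁻¹ * z⁻¹) ^ Nat.card O = 1)⟩
      rw [(Nat.coprime_two_left.2 hOodd).gcd_eq_one, pow_one, mul_inv_eq_one, mul_inv_eq_iff_eq_mul] at hcop
      exact mem_hG.2 hcop
    exact fun o ho => mem_hG.1 (hle ho)
  have hYH : Y ≤ hG z := by
    intro g hg
    have hzo : orderOf (⟨z, hzY⟩ : ↥Y) = 2 ^ 1 := by rw [Subgroup.orderOf_mk, orderOf_z hJ, pow_one]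
    have hiso : Cfsg.IsIsolated (⟨z, hzY⟩ : ↥Y) := fun y hy =>
      Subtype.ext (isolated F hP hJ hN hU ((mem_centralizer_P hP).1 y.2) (congrArg Subtype.val hy.eq))
    have hmem := CfsgLib.LocalEvenB.SharedCentralizer.comm_mem_oddCore ⟨1, hzo⟩ hiso ⟨g, hg⟩
    have ho : g * z * g⁻¹ * z⁻¹ ∈ O := ⟨_, hmem, rfl⟩
    have hcz : Commute (g * z * g⁻¹) z := by
      have h1 := (hOz _ ho).mul_left (Commute.refl z)
      rwa [inv_mul_cancel_right] at h1
    have := isolated F hP hJ hN hU ((mem_centralizer_P hP).1 hg) hcz.symm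
    exact mem_hG.2 (mul_inv_eq_iff_eq_mul.1 this)
  intro g hg
  refine mem_hG.2 (mul_inv_eq_iff_eq_mul.1 ?_)
  have hc1 : ∀ y ∈ Y, g⁻¹ * y * g ∈ Y := fun y hy => mem_centralizer_iff.2 fun p hp => by
    have h1 : g * p * g⁻¹ ∈ P := (mem_normalizer_iff.1 hg p).1 hp
    have h2 := mem_centralizer_iff.1 hy _ h1
    calc p * (g⁻¹ * y * g) = g⁻¹ * (g * p * g⁻¹ * y) * g := by group
      _ = g⁻¹ * (y * (g * p * g⁻¹)) * g := by rw [h2]
      _ = g⁻¹ * y * g * p := by group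
  have hzY' : g * z * g⁻¹ ∈ Y := mem_centralizer_iff.2 fun p hp => by
    have h1 : g⁻¹ * p * g ∈ P := by
      have := (mem_normalizer_iff.1 (inv_mem hg) p).1 hp
      rwa [inv_inv] at this
    calc p * (g * z * g⁻¹) = g * ((g⁻¹ * p * g) * z) * g⁻¹ := by group
      _ = g * (z * (g⁻¹ * p * g)) * g⁻¹ := by rw [mem_centralizer_iff.1 hzY _ h1]
      _ = g * z * g⁻¹ * p := by group
  have hcen : (⟨g * z * g⁻¹, hYH hzY', hzY'⟩ : ↥(cG z P)) ∈ center ↥(cG z P) := by
    refine mem_center_iff.2 fun y => Subtype.ext ?_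
    have h := mem_hG.1 (hYH (hc1 _ y.2.2))
    show (y : G) * (g * z * g⁻¹) = g * z * g⁻¹ * y
    calc (y : G) * (g * z * g⁻¹) = g * ((g⁻¹ * y * g) * z) * g⁻¹ := by group
      _ = g * (z * (g⁻¹ * y * g)) * g⁻¹ := by rw [h]
      _ = g * z * g⁻¹ * y := by group
  rw [center_cG hJ, mem_subgroupOf] at hcen
  exact (sG_inv hJ hcen (by
    rw [show g * z * g⁻¹ * (g * z * g⁻¹) = g * (z * z) * g⁻¹ by group, zz hJ]; group)).resolve_left
    fun e => z_ne hJ (conj_eq_one_iff.1 e)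

end CfsgLib.Sporadic.JankoFourType
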