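import Cfsg.Prelude.Def_JankoFourType
import Cfsg.Agent.S2062
import Cfsg.Agent.Lib.KGroups.M22Count

/-!
# Groups of Janko-four type: the normaliser of the subgroup of order three in the involution centraliser

Everything here follows from the conditions on `H = C(z)` alone: `H = E·N_H(P)`, `N_H(P)` is an extension of
`⟨z⟩ × P` by `Aut M₂₂`, and `C_H(P)` is a central extension of `⟨z⟩ × P` by `M₂₂`.
-/

set_option autoImplicit false

namespace CfsgLib.Sporadic.JankoFourType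

open Cfsg Subgroup

variable {G : Type*} [Group G]

/-- The centraliser of `z`. -/
abbrev hG (z : G) : Subgroup G := centralizer ({z} : Set G)

/-- The normaliser of `P` in the centraliser of `z`. -/
abbrev lG (z : G) (P : Subgroup G) : Subgroup G := hG z ⊓ normalizer (P : Set G)

/-- The centraliser of `P` in the centraliser of `z`. -/
abbrev cG (z : G) (P : Subgroup G) : Subgroup G := hG z ⊓ centralizer (P : Set G)

/-- The subgroup `⟨z⟩ × P`. -/
abbrev sG (z : G) (P : Subgroup G) : Subgroup G := zpowers z ⊔ P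

theorem mem_hG {z g : G} : g ∈ hG z ↔ g * z = z * g := mem_centralizer_singleton_iff

theorem commute_of_mem_centralizer {A : Set G} {g a : G} (hg : g ∈ centralizer A) (ha : a ∈ A) : Commute g a :=
  (mem_centralizer_iff.1 hg a ha).symm

section M22

theorem simple_M22 : IsSimpleGroup ↥Cfsg.Spor.M22 := CfsgLib.KGroups.M22Count.simple_card.1

theorem card_M22 : Nat.card ↥Cfsg.Spor.M22 = 443520 := CfsgLib.KGroups.M22Count.simple_card.2

theorem not_comm_M22 : ¬ IsMulCommutative ↥Cfsg.Spor.M22 := by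
  intro h
  have := simple_M22
  have := h
  letI : CommGroup ↥Cfsg.Spor.M22 := { mul_comm := fun a b => mul_comm' a b }
  have hp : (Nat.card ↥Cfsg.Spor.M22).Prime := IsSimpleGroup.prime_card
  rw [card_M22] at hp
  norm_num at hp

theorem center_M22 : center ↥Cfsg.Spor.M22 = ⊥ := by
  have := simple_M22
  refine ((inferInstance : (center ↥Cfsg.Spor.M22).Normal).eq_bot_or_eq_top).resolve_right fun h => ?_
  exact not_comm_M22 ⟨⟨fun a b => (mem_center_iff.1 (h ▸ mem_top a : a ∈ center ↥Cfsg.Spor.M22) b).symm⟩⟩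

theorem conj_injective : Function.Injective (MulAut.conj : ↥Cfsg.Spor.M22 →* MulAut ↥Cfsg.Spor.M22) := by
  refine (injective_iff_map_eq_one _).2 fun a ha => ?_
  have : a ∈ center ↥Cfsg.Spor.M22 := mem_center_iff.2 fun b => by
    have h := DFunLike.congr_fun ha b
    simp only [MulAut.conj_apply, MulAut.one_apply] at h
    exact (mul_inv_eq_iff_eq_mul.1 h).symm
  rwa [center_M22, mem_bot] at this

/-- The inner automorphisms of `M₂₂`. -/
abbrev innM : Subgroup (MulAut ↥Cfsg.Spor.M22) := (MulAut.conj : ↥Cfsg.Spor.M22 →* MulAut ↥Cfsg.Spor.M22).range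

/-- `Inn M₂₂` is a copy of `M₂₂`. -/
noncomputable def innEquiv : ↥Cfsg.Spor.M22 ≃* ↥innM := MonoidHom.ofInjective conj_injective

theorem card_innM : Nat.card ↥innM = 443520 := (Nat.card_congr innEquiv.toEquiv).symm.trans card_M22

theorem index_innM : innM.index = 2 := Cfsg.Agent.S2062.result

theorem finite_mulAut : Finite (MulAut ↥Cfsg.Spor.M22) := by
  refine Nat.finite_of_card_ne_zero ?_
  rw [← innM.card_mul_index, card_innM, index_innM]
  norm_num

/-- A subgroup of index two in `Aut M₂₂` consists of the inner automorphisms. -/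
theorem eq_innM {K : Subgroup (MulAut ↥Cfsg.Spor.M22)} (hK : K.index = 2) : K = innM := by
  have := finite_mulAut
  have := simple_M22
  have hn : (K.comap MulAut.conj).Normal := (Subgroup.normal_of_index_eq_two hK).comap _
  have h : innM ≤ K := by
    rcases hn.eq_bot_or_eq_top with h | h
    · exfalso
      refine not_comm_M22 ⟨⟨fun a b => ?_⟩⟩
      have : a * b * a⁻¹ * b⁻¹ ∈ (⊥ : Subgroup ↥Cfsg.Spor.M22) := h ▸ by
        rw [mem_comap, map_mul, map_mul, map_mul, map_inv, map_inv]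
        rw [mul_mem_iff_of_index_two hK, inv_mem_iff, mul_mem_iff_of_index_two hK, inv_mem_iff,
          mul_mem_iff_of_index_two hK]
        tauto
      rw [mem_bot, mul_inv_eq_one, mul_inv_eq_iff_eq_mul] at this
      exact this
    · rintro _ ⟨a, rfl⟩
      exact (h ▸ mem_top a : a ∈ K.comap MulAut.conj)
  refine (eq_of_le_of_card_ge h ?_).symm
  have h1 := K.card_mul_index
  rw [hK, ← innM.card_mul_index, index_innM] at h1
  omega

end M22

variable [Finite G] {z : G} {P : Subgroup G}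

section

variable (hJ : IsOfJankoFourTypeWith z P)
include hJ

theorem orderOf_z : orderOf z = 2 := hJ.1

theorem card_P : Nat.card P = 3 := hJ.2.2.2.2.2.1

theorem inf_centralizer_P : twoCoreOfCentralizer z ⊓ centralizer (P : Set G) = zpowers z := hJ.2.2.2.2.2.2.1

theorem P_le_derived : P ≤ ⁅cG z P, cG z P⁆ := hJ.2.2.2.2.2.2.2.2

theorem card_E : Nat.card ↥(twoCoreOfCentralizer z) = 2 ^ 13 := hJ.2.2.1

theorem extraspecial_E : IsExtraspecial 2 ↥(twoCoreOfCentralizer z) := hJ.2.1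

theorem centralizer_E_le : hG z ⊓ centralizer (twoCoreOfCentralizer z : Set G) ≤ twoCoreOfCentralizer z := hJ.2.2.2.1

omit hJ in
theorem E_le : twoCoreOfCentralizer z ≤ hG z := map_subtype_le _

omit hJ in
theorem z_mem_hG : z ∈ hG z := mem_hG.2 rfl

omit hJ in
theorem E_normal : ∀ h ∈ hG z, ∀ e ∈ twoCoreOfCentralizer z, h * e * h⁻¹ ∈ twoCoreOfCentralizer z := by
  rintro h hh _ ⟨e, he, rfl⟩
  exact ⟨⟨h, hh⟩ * e * ⟨h, hh⟩⁻¹, (pCore 2 ↥(hG z)).normal_of_characteristic.conj_mem _ he _, rfl⟩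

theorem z_mem_E : z ∈ twoCoreOfCentralizer z :=
  ((inf_centralizer_P hJ).ge (mem_zpowers z)).1

theorem z_comm_P {p : G} (hp : p ∈ P) : Commute z p :=
  commute_of_mem_centralizer ((inf_centralizer_P hJ).ge (mem_zpowers z)).2 hp

theorem P_le_hG : P ≤ hG z := fun _ hp => mem_hG.2 (z_comm_P hJ hp).symm.eq

theorem P_le_cG : P ≤ cG z P := le_inf (P_le_hG hJ) fun p hp => mem_centralizer_iff.2 fun q hq => by
  have : IsCyclic ↥P := isCyclic_of_prime_card (hp := ⟨Nat.prime_three⟩) (card_P hJ)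
  exact congrArg Subtype.val (IsCyclic.commGroup.mul_comm (⟨q, hq⟩ : ↥P) ⟨p, hp⟩)

theorem z_mem_cG : z ∈ cG z P := ⟨z_mem_hG, mem_centralizer_iff.2 fun p hp => (z_comm_P hJ hp).symm.eq⟩

theorem sG_le_cG : sG z P ≤ cG z P := sup_le (zpowers_le.2 (z_mem_cG hJ)) (P_le_cG hJ)

omit hJ in
theorem cG_le_lG : cG z P ≤ lG z P := inf_le_inf_left _ (centralizer_le_normalizer _)

theorem card_sG : Nat.card ↥(sG z P) = 6 := by
  have h1 : Nat.card ↥(zpowers z) = 2 := (Nat.card_zpowers z).trans (orderOf_z hJ)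
  have hd : Disjoint (zpowers z) P := disjoint_iff.2 (Subgroup.inf_eq_bot_of_coprime (by rw [h1, card_P hJ]; norm_num))
  have hc : ∀ (a : ↥(zpowers z)) (b : ↥P), Commute ((zpowers z).subtype a) (P.subtype b) := by
    rintro ⟨_, n, rfl⟩ b
    exact (z_comm_P hJ b.2).zpow_left n
  have hr : ((zpowers z).subtype.noncommCoprod P.subtype hc).range = sG z P := by
    rw [MonoidHom.noncommCoprod_range, range_subtype, range_subtype]
  have hi : Function.Injective ((zpowers z).subtype.noncommCoprod P.subtype hc) :=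
    (MonoidHom.noncommCoprod_injective _ _ hc).2 ⟨subtype_injective _, subtype_injective _, by
      simpa only [range_subtype] using hd⟩
  rw [← hr, ← Nat.card_congr (MonoidHom.ofInjective hi).toEquiv, Nat.card_prod, h1, card_P hJ]

omit hJ in
/-- In a group of order `3·2¹³` the subgroups of order three are conjugate. -/
theorem exists_conj_three {K : Type*} [Group K] [Finite K] (hK : Nat.card K = 3 * 2 ^ 13) {A B : Subgroup K}
    (hA : Nat.card A = 3) (hB : Nat.card B = 3) : ∃ g : K, A.map (MulAut.conj g).toMonoidHom = B := by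
  haveI : Fact (Nat.Prime 3) := ⟨Nat.prime_three⟩
  have hf : (Nat.card K).factorization 3 = 1 := by
    rw [hK, Nat.factorization_mul (by norm_num) (by norm_num), Nat.Prime.factorization_pow Nat.prime_two,
      Finsupp.add_apply, Finsupp.single_eq_of_ne (by norm_num), Nat.Prime.factorization_self Nat.prime_three, add_zero]
  have hS : ∀ {C : Subgroup K}, Nat.card C = 3 → ∃ S : Sylow 3 K, (S : Subgroup K) = C := fun {C} hC =>
    ⟨Sylow.ofCard C (by rw [hC, hf, pow_one]), rfl⟩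
  obtain ⟨S, rfl⟩ := hS hA
  obtain ⟨T, rfl⟩ := hS hB
  obtain ⟨g, rfl⟩ := MulAction.exists_smul_eq K S T
  exact ⟨g, rfl⟩

/-- The data of the normal subgroup above `E`. -/
theorem exists_N : ∃ (N : Subgroup G) (φ : ↥(hG z) →* MulAut ↥Cfsg.Spor.M22),
    twoCoreOfCentralizer z ≤ N ∧ P ≤ N ∧ N ≤ hG z ∧ Function.Surjective φ ∧ φ.ker = N.subgroupOf (hG z) ∧
      Nat.card ↥N = 3 * 2 ^ 13 := by
  have hE := card_E hJ
  obtain ⟨-, -, -, -, ⟨N, hEN, hNH, -, hc, ⟨hn, ⟨e⟩⟩, hPN⟩, -⟩ := hJ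
  haveI := hn
  refine ⟨N, e.toMonoidHom.comp (QuotientGroup.mk' _), hEN, hPN, hNH,
    e.surjective.comp (QuotientGroup.mk'_surjective _), ?_, by rw [hc, hE]⟩
  ext h
  rw [MonoidHom.mem_ker]
  exact (map_eq_one_iff e e.injective).trans (QuotientGroup.eq_one_iff h)

theorem E_inf_P {g : G} (hE : g ∈ twoCoreOfCentralizer z) (hP : g ∈ P) : g = 1 := by
  have := Subgroup.inf_eq_bot_of_coprime (H := twoCoreOfCentralizer z) (K := P)
    (by rw [card_E hJ, card_P hJ]; norm_num)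
  rw [← mem_bot, ← this]; exact ⟨hE, hP⟩

theorem exists_decomp_N {N : Subgroup G} (hEN : twoCoreOfCentralizer z ≤ N) (hPN : P ≤ N)
    (hc : Nat.card ↥N = 3 * 2 ^ 13) {n : G} (hn : n ∈ N) :
    ∃ e ∈ twoCoreOfCentralizer z, ∃ p ∈ P, n = e * p := by
  let f : ↥(twoCoreOfCentralizer z) × ↥P → ↥N := fun a => ⟨a.1 * a.2, mul_mem (hEN a.1.2) (hPN a.2.2)⟩
  have hi : Function.Injective f := by
    rintro ⟨⟨e, he⟩, ⟨p, hp⟩⟩ ⟨⟨e', he'⟩, ⟨p', hp'⟩⟩ h
    have h' : e * p = e' * p' := congrArg Subtype.val h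
    have hk : e'⁻¹ * e = p' * p⁻¹ := by
      rw [eq_mul_inv_iff_mul_eq, mul_assoc, h', inv_mul_cancel_left]
    have h1 : e'⁻¹ * e = 1 := E_inf_P hJ (mul_mem (inv_mem he') he) (hk ▸ mul_mem hp' (inv_mem hp))
    obtain rfl := inv_mul_eq_one.1 h1
    obtain rfl := mul_left_cancel h'
    rfl
  haveI : Finite ↥N := Nat.finite_of_card_ne_zero (by rw [hc]; norm_num)
  have hb := hi.bijective_of_nat_card_le (by rw [hc, Nat.card_prod, card_E hJ, card_P hJ, mul_comm])
  obtain ⟨⟨e, p⟩, h⟩ := hb.2 ⟨n, hn⟩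
  exact ⟨e, e.2, p, p.2, (congrArg Subtype.val h).symm⟩

/-- A subgroup of order three of `N` is a conjugate of `P` by an element of `E`. -/
theorem exists_conj_E {N : Subgroup G} (hEN : twoCoreOfCentralizer z ≤ N) (hPN : P ≤ N)
    (hc : Nat.card ↥N = 3 * 2 ^ 13) {P' : Subgroup G} (hle : P' ≤ N) (h3 : Nat.card P' = 3) :
    ∃ e ∈ twoCoreOfCentralizer z, P.map (MulAut.conj e).toMonoidHom = P' := by
  obtain ⟨g, hg⟩ := exists_conj_three hc
    (A := P.subgroupOf N) (B := P'.subgroupOf N)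
    (by rw [Nat.card_congr (subgroupOfEquivOfLe hPN).toEquiv, card_P hJ])
    (by rw [Nat.card_congr (subgroupOfEquivOfLe hle).toEquiv, h3])
  obtain ⟨e, he, p, hp, hgep⟩ := exists_decomp_N hJ hEN hPN hc g.2
  refine ⟨e, he, eq_of_le_of_card_ge ?_ ?_⟩
  · rintro _ ⟨q, hq, rfl⟩
    have hq' : p⁻¹ * q * p ∈ P := mul_mem (mul_mem (inv_mem hp) hq) hp
    have h : g * ⟨p⁻¹ * q * p, hPN hq'⟩ * g⁻¹ ∈ P'.subgroupOf N := hg ▸ ⟨⟨_, hPN hq'⟩, hq', rfl⟩
    rw [mem_subgroupOf] at h
    push_cast at h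
    rw [hgep] at h
    show e * q * e⁻¹ ∈ P'
    convert h using 1
    group
  · rw [h3, Subgroup.card_map_of_injective (f := (MulAut.conj e).toMonoidHom) (MulAut.conj e).injective, card_P hJ]

/-- The Frattini argument. -/
theorem exists_decomp {h : G} (hh : h ∈ hG z) : ∃ e ∈ twoCoreOfCentralizer z, ∃ l ∈ lG z P, h = e * l := by
  obtain ⟨N, φ, hEN, hPN, hNH, -, hker, hc⟩ := exists_N hJ
  haveI : (N.subgroupOf (hG z)).Normal := hker ▸ inferInstance
  have hle : P.map (MulAut.conj h).toMonoidHom ≤ N := by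
    rintro _ ⟨p, hp, rfl⟩
    exact mem_subgroupOf.1 ((inferInstance : (N.subgroupOf (hG z)).Normal).conj_mem ⟨p, hNH (hPN hp)⟩
      (mem_subgroupOf.2 (hPN hp)) ⟨h, hh⟩)
  obtain ⟨e, he, heq⟩ := exists_conj_E hJ hEN hPN hc hle (by
    rw [Subgroup.card_map_of_injective (f := (MulAut.conj h).toMonoidHom) (MulAut.conj h).injective, card_P hJ])
  refine ⟨e, he, e⁻¹ * h, ⟨(hG z).mul_mem ((hG z).inv_mem (E_le he)) hh, mem_normalizer_iff.2 fun a => ?_⟩, by group⟩
  have k : h * a * h⁻¹ ∈ P.map (MulAut.conj h).toMonoidHom ↔ a ∈ P :=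
    mem_map_iff_mem (f := (MulAut.conj h).toMonoidHom) (MulAut.conj h).injective
  have k' : e * (e⁻¹ * h * a * (e⁻¹ * h)⁻¹) * e⁻¹ ∈ P.map (MulAut.conj e).toMonoidHom ↔
      e⁻¹ * h * a * (e⁻¹ * h)⁻¹ ∈ P :=
    mem_map_iff_mem (f := (MulAut.conj e).toMonoidHom) (MulAut.conj e).injective
  rw [← k', heq, show e * (e⁻¹ * h * a * (e⁻¹ * h)⁻¹) * e⁻¹ = h * a * h⁻¹ by group, k]

/-- The map onto `Aut M₂₂` of the normaliser of `P`. -/
theorem exists_phi : ∃ φ : ↥(lG z P) →* MulAut ↥Cfsg.Spor.M22,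
    Function.Surjective φ ∧ φ.ker = (sG z P).subgroupOf (lG z P) := by
  obtain ⟨N, φ, hEN, hPN, hNH, hs, hker, hc⟩ := exists_N hJ
  have hmem : ∀ {g : G} (hg : g ∈ hG z), φ ⟨g, hg⟩ = 1 ↔ g ∈ N := fun {g} hg => by
    rw [← MonoidHom.mem_ker, hker, mem_subgroupOf]
  refine ⟨φ.comp (Subgroup.inclusion inf_le_left), fun a => ?_, ?_⟩
  · obtain ⟨⟨h, hh⟩, rfl⟩ := hs a
    obtain ⟨e, he, l, hl, rfl⟩ := exists_decomp hJ hh
    refine ⟨⟨l, hl⟩, ?_⟩
    show φ ⟨l, hl.1⟩ = φ (⟨e, E_le he⟩ * ⟨l, hl.1⟩)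
    rw [map_mul, (hmem (E_le he)).2 (hEN he), one_mul]
  · ext ⟨l, hl⟩
    rw [MonoidHom.mem_ker, mem_subgroupOf]
    show φ ⟨l, hl.1⟩ = 1 ↔ _
    rw [hmem hl.1]
    constructor
    · intro hn
      obtain ⟨e, he, p, hp, rfl⟩ := exists_decomp_N hJ hEN hPN hc hn
      have hen : e ∈ normalizer (P : Set G) := by
        have := (normalizer (P : Set G)).mul_mem hl.2 ((normalizer (P : Set G)).inv_mem (le_normalizer hp))
        rwa [mul_inv_cancel_right] at this
      have hez : e ∈ zpowers z := by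
        rw [← inf_centralizer_P hJ]
        refine ⟨he, mem_centralizer_iff.2 fun q hq => ?_⟩
        have h1 : e * q * e⁻¹ * q⁻¹ ∈ P := mul_mem ((mem_normalizer_iff.1 hen q).1 hq) (inv_mem hq)
        have h2 : e * q * e⁻¹ * q⁻¹ ∈ twoCoreOfCentralizer z := by
          rw [mul_assoc e, mul_assoc e]
          exact mul_mem he (E_normal q (P_le_hG hJ hq) _ (inv_mem he))
        have h3 := E_inf_P hJ h2 h1
        rw [mul_inv_eq_one, mul_inv_eq_iff_eq_mul] at h3
        exact h3.symm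
      exact mul_mem (mem_sup_left hez) (mem_sup_right hp)
    · intro hs'
      exact (sup_le (zpowers_le.2 (hEN (z_mem_E hJ))) hPN : sG z P ≤ N) hs'

/-- The centraliser of `P` has index two in its normaliser. -/
theorem index_cG : ((cG z P).subgroupOf (lG z P)).index = 2 := by
  obtain ⟨p, hp, hp1⟩ : ∃ p ∈ P, p ≠ 1 := by
    refine (P.bot_or_exists_ne_one).resolve_left fun h => ?_
    have := card_P hJ
    rw [h, card_bot] at this
    omega
  haveI : Fact (Nat.Prime 3) := ⟨Nat.prime_three⟩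
  have hgen : ∀ q ∈ P, q = 1 ∨ q = p ∨ q = p⁻¹ := by
    intro q hq
    obtain ⟨i, hi⟩ := (mem_zpowers_iff.1 (mem_zpowers_of_prime_card (p := 3) (card_P hJ)
      (g := (⟨p, hp⟩ : ↥P)) (g' := ⟨q, hq⟩) (fun e => hp1 (congrArg Subtype.val e))))
    have hi' : p ^ i = q := congrArg Subtype.val hi
    have h3 : p ^ (3 : ℤ) = 1 := by
      rw [show (3 : ℤ) = ((Nat.card P : ℕ) : ℤ) by rw [card_P hJ]; rfl, zpow_natCast]
      exact congrArg Subtype.val (pow_card_eq_one' (x := (⟨p, hp⟩ : ↥P)))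
    rw [← hi', zpow_eq_zpow_emod i h3]
    rcases (by omega : i % 3 = 0 ∨ i % 3 = 1 ∨ i % 3 = 2) with e | e | e <;> rw [e]
    · exact Or.inl (zpow_zero p)
    · exact Or.inr (Or.inl (zpow_one p))
    · refine Or.inr (Or.inr (eq_inv_of_mul_eq_one_right ?_))
      rw [← h3]; group
  have hcase : ∀ b ∈ lG z P, b * p * b⁻¹ = p ∨ b * p * b⁻¹ = p⁻¹ := fun b hb =>
    (hgen _ ((mem_normalizer_iff.1 hb.2 p).1 hp)).resolve_left fun e => hp1 (conj_eq_one_iff.1 e)
  have hne : p⁻¹ ≠ p := fun e => hp1 (by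
    rcases hgen _ (mul_mem hp hp) with h | h | h
    · have h3 : p ^ 3 = 1 := by
        have := congrArg Subtype.val (pow_card_eq_one' (x := (⟨p, hp⟩ : ↥P)))
        rwa [card_P hJ] at this
      rwa [pow_succ, pow_two, h, one_mul] at h3
    · exact mul_eq_left.1 h
    · rw [e] at h; exact mul_eq_left.1 h)
  have hmem : ∀ {b : G}, b ∈ lG z P → (b ∈ cG z P ↔ b * p * b⁻¹ = p) := fun {b} hb => by
    refine ⟨fun h => by rw [← mem_centralizer_iff.1 h.2 p hp, mul_inv_cancel_right], fun h => ⟨hb.1, ?_⟩⟩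
    refine mem_centralizer_iff.2 fun q hq => ?_
    have hc : Commute p b := (mul_inv_eq_iff_eq_mul.1 h).symm
    rcases hgen q hq with rfl | rfl | rfl
    · rw [one_mul, mul_one]
    · exact hc.eq
    · exact hc.inv_left.eq
  obtain ⟨a, ha, ha'⟩ : ∃ a ∈ lG z P, a * p * a⁻¹ = p⁻¹ := by
    by_contra hno
    push Not at hno
    refine hJ.2.2.2.2.2.2.2.1 (le_antisymm (fun b hb => ?_) cG_le_lG)
    exact (hmem hb).2 ((hcase b hb).resolve_right (hno b hb))
  refine index_eq_two_iff.2 ⟨⟨a, ha⟩, fun ⟨b, hb⟩ => ?_⟩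
  rw [mem_subgroupOf, mem_subgroupOf]
  push_cast
  have e : b * a * p * (b * a)⁻¹ = (b * p * b⁻¹)⁻¹ := by
    rw [show b * a * p * (b * a)⁻¹ = b * (a * p * a⁻¹) * b⁻¹ by group, ha']; group
  rw [hmem (mul_mem hb ha), hmem hb, e]
  rcases hcase b hb with h | h <;> rw [h]
  · exact Or.inr ⟨rfl, hne⟩
  · exact Or.inl ⟨inv_inv p, hne⟩

/-- The centraliser of `P` maps onto `M₂₂` with kernel `⟨z⟩ × P`. -/
theorem exists_psi : ∃ χ : ↥(cG z P) →* ↥Cfsg.Spor.M22,
    Function.Surjective χ ∧ χ.ker = (sG z P).subgroupOf (cG z P) := by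
  obtain ⟨φ, hs, hk⟩ := exists_phi hJ
  have hkC : φ.ker ≤ (cG z P).subgroupOf (lG z P) := by rw [hk]; exact comap_mono (sG_le_cG hJ)
  have himg : ((cG z P).subgroupOf (lG z P)).map φ = innM := eq_innM (by
    rw [index_map_eq _ hs hkC, index_cG hJ])
  let φC : ↥(cG z P) →* ↥innM := (φ.comp (Subgroup.inclusion cG_le_lG)).codRestrict innM fun c =>
    himg ▸ ⟨Subgroup.inclusion cG_le_lG c, c.2, rfl⟩
  refine ⟨innEquiv.symm.toMonoidHom.comp φC, innEquiv.symm.surjective.comp fun a => ?_, ?_⟩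
  · obtain ⟨l, hl, e⟩ := himg.ge a.2
    exact ⟨⟨l, hl⟩, Subtype.ext e⟩
  · ext c
    rw [MonoidHom.mem_ker, mem_subgroupOf]
    refine ((map_eq_one_iff innEquiv.symm innEquiv.symm.injective).trans Subtype.ext_iff).trans ?_
    show φ (Subgroup.inclusion cG_le_lG c) = 1 ↔ _
    rw [← MonoidHom.mem_ker, hk, mem_subgroupOf, coe_inclusion]

theorem card_cG : Nat.card ↥(cG z P) = 2661120 := by
  obtain ⟨χ, hs, hk⟩ := exists_psi hJ
  rw [← χ.ker.card_mul_index, index_ker, MonoidHom.range_eq_top.2 hs, card_top, card_M22, hk,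
    Nat.card_congr (subgroupOfEquivOfLe (sG_le_cG hJ)).toEquiv, card_sG hJ]

theorem card_lG : Nat.card ↥(lG z P) = 5322240 := by
  rw [← ((cG z P).subgroupOf (lG z P)).card_mul_index, index_cG hJ,
    Nat.card_congr (subgroupOfEquivOfLe cG_le_lG).toEquiv, card_cG hJ]

theorem sG_central {s g : G} (hs : s ∈ sG z P) (hg : g ∈ cG z P) : g * s = s * g := by
  have : sG z P ≤ centralizer ({g} : Set G) := sup_le
    (zpowers_le.2 (mem_centralizer_singleton_iff.2 (mem_hG.1 hg.1).symm))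
    fun p hp => mem_centralizer_singleton_iff.2 (mem_centralizer_iff.1 hg.2 p hp)
  exact (mem_centralizer_singleton_iff.1 (this hs)).symm

theorem center_cG : center ↥(cG z P) = (sG z P).subgroupOf (cG z P) := by
  obtain ⟨χ, hs, hk⟩ := exists_psi hJ
  refine le_antisymm (fun c hc => ?_) fun c hc => mem_center_iff.2 fun d => Subtype.ext (sG_central hJ hc d.2)
  rw [← hk, MonoidHom.mem_ker, ← mem_bot, ← center_M22, mem_center_iff]
  intro a
  obtain ⟨d, rfl⟩ := hs a
  rw [← map_mul, ← map_mul, mem_center_iff.1 hc d]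

theorem card_center : Nat.card ↥(center ↥(cG z P)) = 6 := by
  rw [center_cG hJ, Nat.card_congr (subgroupOfEquivOfLe (sG_le_cG hJ)).toEquiv, card_sG hJ]

theorem isCyclic_sG : IsCyclic ↥(sG z P) := by
  obtain ⟨p, hp, hp1⟩ : ∃ p ∈ P, p ≠ 1 := by
    refine (P.bot_or_exists_ne_one).resolve_left fun h => ?_
    have := card_P hJ
    rw [h, card_bot] at this
    omega
  haveI : Fact (Nat.Prime 3) := ⟨Nat.prime_three⟩
  have h3 : orderOf p = 3 := by
    refine orderOf_eq_prime ?_ hp1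
    have := congrArg Subtype.val (pow_card_eq_one' (x := (⟨p, hp⟩ : ↥P)))
    rwa [card_P hJ] at this
  have ho : orderOf (z * p) = 6 := by
    rw [(z_comm_P hJ hp).orderOf_mul_eq_mul_orderOf_of_coprime (by rw [orderOf_z hJ, h3]; norm_num),
      orderOf_z hJ, h3]
  refine isCyclic_of_orderOf_eq_card (⟨z * p, mul_mem (mem_sup_left (mem_zpowers z)) (mem_sup_right hp)⟩ : ↥(sG z P)) ?_
  rw [card_sG hJ, Subgroup.orderOf_mk, ho]

theorem isCyclic_center : IsCyclic ↥(center ↥(cG z P)) := by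
  haveI := isCyclic_sG hJ
  rw [center_cG hJ]
  exact isCyclic_of_surjective _ (subgroupOfEquivOfLe (sG_le_cG hJ)).symm.surjective

theorem quotient_center : Nonempty ((↥(cG z P) ⧸ center ↥(cG z P)) ≃* ↥Cfsg.Spor.M22) := by
  obtain ⟨χ, hs, hk⟩ := exists_psi hJ
  exact ⟨(QuotientGroup.quotientMulEquivOfEq (by rw [hk, center_cG hJ])).trans
    (QuotientGroup.quotientKerEquivOfSurjective χ hs)⟩

/-- Every element of the centraliser of `P` is in the derived subgroup, or its product with `z` is. -/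
theorem derived_cases {c : G} (hc : c ∈ cG z P) :
    c ∈ ⁅cG z P, cG z P⁆ ∨ c * z ∈ ⁅cG z P, cG z P⁆ := by
  obtain ⟨χ, hs, hk⟩ := exists_psi hJ
  haveI := simple_M22
  have htop : (commutator ↥(cG z P)).map χ = ⊤ := by
    rw [commutator_def, map_commutator, map_top_of_surjective χ hs, ← commutator_def]
    refine ((inferInstance : (commutator ↥Cfsg.Spor.M22).Normal).eq_bot_or_eq_top).resolve_left fun h => not_comm_M22 ?_
    have hcen := (commutator_eq_bot_iff_center_eq_top ↥Cfsg.Spor.M22).1 h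
    exact ⟨⟨fun a b => (mem_center_iff.1 (hcen ▸ mem_top a : a ∈ center ↥Cfsg.Spor.M22) b).symm⟩⟩
  obtain ⟨d, hd, e⟩ : χ ⟨c, hc⟩ ∈ (commutator ↥(cG z P)).map χ := htop ▸ mem_top _
  have hdG : (d : G) ∈ ⁅cG z P, cG z P⁆ := map_subtype_commutator (cG z P) ▸ ⟨d, hd, rfl⟩
  have hs' : d⁻¹ * ⟨c, hc⟩ ∈ χ.ker := MonoidHom.mem_ker.2 (by rw [map_mul, map_inv, e, inv_mul_cancel])
  rw [hk, mem_subgroupOf] at hs'
  push_cast at hs'
  obtain ⟨a, ha, p, hp, hap⟩ : ∃ a ∈ zpowers z, ∃ p ∈ P, a * p = (d : G)⁻¹ * c := by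
    have hn : P ≤ normalizer (zpowers z : Set G) := fun q hq => mem_normalizer_iff.2 fun b => by
      constructor
      · rintro ⟨i, rfl⟩
        exact ⟨i, by rw [← ((z_comm_P hJ hq).zpow_left i).eq, mul_inv_cancel_right]⟩
      · rintro ⟨i, e⟩
        refine ⟨i, ?_⟩
        have h1 : b = q⁻¹ * (q * b * q⁻¹) * q := by group
        rw [h1, ← e, mul_assoc, ((z_comm_P hJ hq).zpow_left i).eq, inv_mul_cancel_left]
    have := hs'
    rw [← SetLike.mem_coe, coe_mul_of_right_le_normalizer_left _ _ hn] at this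
    exact Set.mem_mul.1 this
  have hpD := P_le_derived hJ hp
  have hc' : c = (d : G) * a * p := by rw [mul_assoc, hap, mul_inv_cancel_left]
  have hzz : z * z = 1 := by rw [← pow_two, ← orderOf_z hJ]; exact pow_orderOf_eq_one z
  obtain ⟨i, rfl⟩ := ha
  rcases Int.even_or_odd' i with ⟨j, rfl | rfl⟩
  · left
    simp only at hc'
    rw [hc', zpow_mul, zpow_two, hzz, one_zpow, mul_one]
    exact mul_mem hdG hpD
  · right
    simp only at hc'
    rw [hc', zpow_add, zpow_mul, zpow_two, hzz, one_zpow, one_mul, zpow_one, mul_assoc (d : G) z p,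
      (z_comm_P hJ hp).eq, ← mul_assoc, mul_assoc, hzz, mul_one]
    exact mul_mem hdG hpD

theorem perfect_of_mem (hz : z ∈ ⁅cG z P, cG z P⁆) : ⁅cG z P, cG z P⁆ = cG z P := by
  refine le_antisymm (commutator_le_self _) fun c hc => ?_
  rcases derived_cases hJ hc with h | h
  · exact h
  · have := mul_mem h (inv_mem hz)
    rwa [mul_inv_cancel_right] at this

end

end CfsgLib.Sporadic.JankoFourType
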