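import Cfsg.Agent.Lib.Sporadic.JankoFourType.Basic
import Cfsg.Agent.Lib.Sporadic.J4Type.Eleven

/-!
# Groups of Janko-four type: coordinates in which `P` is generated by the scalar
-/

set_option autoImplicit false
set_option linter.style.haveILetI false
set_option linter.unusedSectionVars false

namespace CfsgLib.Sporadic.JankoFourType

open Cfsg Subgroup CfsgLib.Sporadic.LargeFischer CfsgLib.Sporadic.LargeFischer.Hexa CfsgLib.Sporadic.J4Type

variable {G : Type*} [Group G] [Finite G] {z : G} {P : Subgroup G} (hJ : IsOfJankoFourTypeWith z P)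

/-- A normal subgroup of `Aut M₂₂` generated by an element of order dividing three is trivial. -/
theorem eq_one_of_normal {a : MulAut ↥Cfsg.Spor.M22} (h3 : a ^ 3 = 1)
    (hn : ∀ b, b * a * b⁻¹ ∈ zpowers a) : a = 1 := by
  haveI := finite_mulAut
  haveI := simple_M22
  have ha : a ∈ innM := by
    have h2 : a * a ∈ innM := mul_self_mem_of_index_two index_innM a
    have h4 : a * a * (a * a) = a := by
      calc a * a * (a * a) = a ^ 3 * a := by rw [pow_succ, pow_two]; simp only [mul_assoc]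
        _ = a := by rw [h3, one_mul]
    exact h4 ▸ mul_mem h2 h2
  haveI : (zpowers a).Normal := ⟨fun b hb g => by
    obtain ⟨i, rfl⟩ := hb
    rw [← conj_zpow]
    exact zpow_mem (hn g) i⟩
  rcases (inferInstance : ((zpowers a).comap (MulAut.conj : ↥Cfsg.Spor.M22 →* _)).Normal).eq_bot_or_eq_top
    with h | h
  · obtain ⟨m, rfl⟩ := ha
    have : m ∈ (⊥ : Subgroup ↥Cfsg.Spor.M22) := h ▸ mem_zpowers _
    rw [mem_bot.1 this, map_one]
  · exfalso
    have hle : innM ≤ zpowers a := by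
      rintro _ ⟨m, rfl⟩
      exact (h ▸ mem_top m : m ∈ (zpowers a).comap _)
    have h1 := card_le_of_le hle
    rw [card_innM, Nat.card_zpowers] at h1
    have h2 := Nat.le_of_dvd (by norm_num) (orderOf_dvd_of_pow_eq_one h3)
    omega

include hJ

/-- Coordinates on `E/⟨z⟩` in which a generator of `P` acts as the scalar. -/
theorem exists_coords : ∃ (π : G → V6) (ψ : ↥(centralizer ({z} : Set G)) →* (V6 ≃ₗ[ZMod 2] V6))
    (x : ↥(centralizer ({z} : Set G))), JF z π ψ x ∧ P = zpowers (x : G) := by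
  obtain ⟨π, ψ, x, J⟩ := exists_jf ⟨P, hJ⟩
  obtain ⟨N, φ, hEN, hPN, hNH, hs, hker, hc⟩ := exists_N hJ
  have hψ : ψ x * ψ x * ψ x = 1 := by
    rw [← map_mul, ← map_mul, show x * x * x = x ^ 3 by rw [pow_succ, pow_two], J.h3, map_one]
  have hx1 : (x : G) ≠ 1 := fun e => by
    obtain rfl : x = 1 := Subtype.ext e
    have h1 := J.hx (dec 1)
    rw [map_one] at h1
    exact absurd (congrArg enc h1) (by decide +kernel)
  have hxN : (x : G) ∈ N := by
    suffices h : φ x = 1 by rwa [← MonoidHom.mem_ker, hker, mem_subgroupOf] at h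
    refine eq_one_of_normal (by rw [← map_pow, J.h3, map_one]) fun b => ?_
    obtain ⟨h, rfl⟩ := hs b
    have hE : ∀ c : ↥(centralizer ({z} : Set G)), ψ c = 1 → φ c = 1 := fun c hc' => by
      rw [← MonoidHom.mem_ker, hker, mem_subgroupOf]
      exact hEN ((J.base.ker c).1 hc')
    have key : ∀ i : ℕ, ψ (h * x * h⁻¹) = ψ (x ^ i) → φ h * φ x * (φ h)⁻¹ ∈ zpowers (φ x) := fun i e => by
      have h1 := hE ((x ^ i)⁻¹ * (h * x * h⁻¹)) (by rw [map_mul, map_inv, e, inv_mul_cancel])
      rw [map_mul, map_inv, inv_mul_eq_one, map_mul, map_mul, map_inv, map_pow] at h1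
      rw [← h1]
      exact pow_mem (mem_zpowers _) i
    rcases (range_le J ⟨h, rfl⟩ : InJ (ψ h)).1 with hl | hl
    · refine key 1 (LinearEquiv.ext fun v => ?_)
      rw [pow_one, map_mul, map_mul, map_inv, J.hx]
      show ψ h (ψ x ((ψ h).symm v)) = _
      rw [J.hx, hl, (ψ h).apply_symm_apply]
    · refine key 2 (LinearEquiv.ext fun v => ?_)
      rw [pow_two, map_mul, map_mul, map_mul, map_inv]
      show ψ h (ψ x ((ψ h).symm v)) = ψ x (ψ x v)
      rw [J.hx, J.hx, J.hx, hl, (ψ h).apply_symm_apply]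
  haveI : Fact (Nat.Prime 3) := ⟨Nat.prime_three⟩
  have ho : orderOf (x : G) = 3 := orderOf_eq_prime (congrArg Subtype.val J.h3) hx1
  obtain ⟨e, he, heq⟩ := exists_conj_E hJ hEN hPN hc (zpowers_le.2 hxN) (by rw [Nat.card_zpowers, ho])
  set ec : ↥(centralizer ({z} : Set G)) := ⟨e, E_le he⟩
  refine ⟨π, ψ, ec⁻¹ * x * ec, { J with hx := fun v => ?_, h3 := ?_ }, ?_⟩
  · have h1 : ψ ec = 1 := (J.base.ker ec).2 he
    rw [map_mul, map_mul, map_inv, h1, inv_one, one_mul, mul_one, J.hx]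
  · rw [← MulAut.conj_inv_apply, ← map_pow, J.h3, map_one]
  · refine (eq_of_le_of_card_ge (zpowers_le.2 ?_) ?_).symm
    · obtain ⟨p, hp, hpx⟩ : (x : G) ∈ P.map (MulAut.conj e).toMonoidHom := heq ▸ mem_zpowers _
      push_cast
      rw [← hpx]
      show e⁻¹ * (e * p * e⁻¹) * e ∈ P
      rwa [show e⁻¹ * (e * p * e⁻¹) * e = p by group]
    · rw [Nat.card_zpowers, card_P hJ, show ((ec⁻¹ * x * ec : ↥(centralizer ({z} : Set G))) : G) =
        MulAut.conj e⁻¹ (x : G) by simp [ec],
        MulEquiv.orderOf_eq, ho]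

end CfsgLib.Sporadic.JankoFourType
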