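import Cfsg.Agent.Lib.Sporadic.JankoFourType.Main

/-!
# Groups of Janko-four type: all small involutions of `A` from one of them
-/

set_option autoImplicit false
set_option linter.style.haveILetI false
set_option linter.unusedSectionVars false

namespace CfsgLib.Sporadic.JankoFourType

open Cfsg Subgroup CfsgLib.Sporadic.LargeFischer CfsgLib.Sporadic.LargeFischer.Hexa

/-- One small involution with centraliser in the normaliser suffices: they form one orbit. -/
theorem smallCent_of {G : Type*} [Group G] [Finite G] {z : G}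
    (h : ∀ V : Subgroup G, IsElementaryAbelian 2 V → Nat.card ↥V = 2 ^ 11 →
      ∃ t ∈ V, t ≠ 1 ∧ ¬ IsConj z t ∧ centralizer ({t} : Set G) ≤ normalizer (V : Set G)) :
    SmallCent G z := by
  intro π ψ x _ F c L hN t ht ht1 htz
  obtain ⟨s, hs, hs1, hsz, hle⟩ := h (F.asub L) (F.isElementaryAbelian_asub L) (F.card_asub L)
  obtain ⟨n, hn, rfl⟩ := ht
  obtain ⟨m, hm, rfl⟩ := hs
  have hsmall : ∀ k, k < 2048 → F.el L k ≠ 1 → ¬ IsConj z (F.el L k) → inD sgnB k = true :=
    fun k hk h1 h2 => ((hN.small k hk).1 h2).resolve_left fun e => h1 (e ▸ F.el_zero L)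
  obtain ⟨g, hg, e⟩ := hN.trans m n hm hn (hsmall m hm hs1 hsz) (hsmall n hn ht1 htz)
  intro w hw
  have hw' : g⁻¹ * w * g ∈ normalizer (F.asub L : Set G) := hle (mem_centralizer_singleton_iff.2 (by
    have h' := mem_centralizer_singleton_iff.1 hw
    rw [← e] at h'
    calc g⁻¹ * w * g * F.el L m = g⁻¹ * (w * (g * F.el L m * g⁻¹)) * g := by group
      _ = g⁻¹ * (g * F.el L m * g⁻¹ * w) * g := by rw [h']
      _ = F.el L m * (g⁻¹ * w * g) := by group))
  have := mul_mem (mul_mem hg hw') (inv_mem hg)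
  rwa [show g * (g⁻¹ * w * g) * g⁻¹ = w by group] at this

end CfsgLib.Sporadic.JankoFourType
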