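import Cfsg.Agent.Lib.Sporadic.JankoFourType.Basic
import Cfsg.Agent.Lib.PGroup.OrderPCubeExtra
import Cfsg.Agent.Lib.KGroups.M22Three
import Cfsg.Agent.Lib.KGroups.M22Column

/-!
# Groups of Janko-four type: the Sylow 3-subgroups

A Sylow 3-subgroup `R` of `C_H(P)` is extraspecial of order 27 and exponent 3 with centre `P`, and if
`N(P) ≤ H` its normaliser has order 864.
-/

set_option autoImplicit false
set_option linter.style.haveILetI false
set_option linter.unusedSectionVars false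

namespace CfsgLib.Sporadic.JankoFourType

open Cfsg Subgroup

section M22

/-- The facts needed about the elements of order three of `M₂₂`. -/
theorem m22_three (S : Sylow 3 ↥Cfsg.Spor.M22) :
    Nat.card ↥(normalizer ((S : Subgroup ↥Cfsg.Spor.M22) : Set ↥Cfsg.Spor.M22)) = 72 ∧
      (∀ g : ↥Cfsg.Spor.M22, orderOf g ≠ 9) ∧
      ∀ g h : ↥Cfsg.Spor.M22, orderOf g = 3 → orderOf h = 3 → IsConj g h := by
  haveI : Fact (Nat.Prime 3) := ⟨Nat.prime_three⟩
  haveI : Finite ↥Cfsg.Spor.M22 := Nat.finite_of_card_ne_zero (by rw [card_M22]; norm_num)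
  letI := Fintype.ofFinite ↥Cfsg.Spor.M22
  haveI := simple_M22
  obtain ⟨T⟩ := CfsgLib.KGroups.M22Column.exists_table (G := ↥Cfsg.Spor.M22) card_M22
  exact ⟨(CfsgLib.KGroups.M22Three.normalizer_card T card_M22 S).1,
    CfsgLib.KGroups.M22Elements.no_nine (T := T) card_M22,
    fun g h => CfsgLib.KGroups.M22Elements.three_conj (T := T) card_M22⟩

end M22

variable {G : Type*} [Group G] [Finite G] {z : G} {P : Subgroup G}

/-- An element mapping a subgroup of a finite group into itself normalises it. -/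
theorem mem_normalizer_of_conj_mem {H : Subgroup G} {g : G} (hg : ∀ a ∈ H, g * a * g⁻¹ ∈ H) :
    g ∈ normalizer (H : Set G) :=
  letI := Fintype.ofFinite G
  CfsgLib.KGroups.M22Three.mem_normalizer_of_le hg

variable (hJ : IsOfJankoFourTypeWith z P)
include hJ

theorem card_hG : Nat.card ↥(hG z) = 27 * 807403520 := by
  obtain ⟨N, φ, -, -, hNH, hs, hker, hc⟩ := exists_N hJ
  rw [← φ.ker.card_mul_index, index_ker, MonoidHom.range_eq_top.2 hs, card_top, hker,
    Nat.card_congr (subgroupOfEquivOfLe hNH).toEquiv, hc, ← innM.card_mul_index, card_innM, index_innM]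
  norm_num

/-- A 3-subgroup of `C(z)` has order at most 27. -/
theorem card_le_of_le_hG {A : Subgroup G} (hA : IsPGroup 3 ↥A) (hle : A ≤ hG z) : Nat.card ↥A ≤ 27 := by
  haveI : Fact (Nat.Prime 3) := ⟨Nat.prime_three⟩
  obtain ⟨k, hk⟩ := IsPGroup.iff_card.1 hA
  have h := card_dvd_of_le hle
  rw [hk, card_hG hJ] at h
  have h' : 3 ^ k ∣ 3 ^ 3 :=
    (Nat.Coprime.pow_left k (by norm_num : Nat.Coprime 3 807403520)).dvd_of_dvd_mul_right (by simpa using h)
  rw [hk]
  exact Nat.le_of_dvd (by norm_num) h'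

omit hJ in
theorem isPGroup_of_card_27 {A : Subgroup G} (h : Nat.card ↥A = 27) : IsPGroup 3 ↥A :=
  IsPGroup.of_card (n := 3) (by rw [h]; norm_num)

/-- A subgroup of order 27 of the centraliser of `P` is a Sylow subgroup there. -/
noncomputable def sylowC [Fact (Nat.Prime 3)] {R : Subgroup G} (hRc : R ≤ cG z P) (h27 : Nat.card ↥R = 27) :
    Sylow 3 ↥(cG z P) :=
  Sylow.ofCard (R.subgroupOf (cG z P)) (by
    rw [Nat.card_congr (subgroupOfEquivOfLe hRc).toEquiv, h27, card_cG hJ,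
      show (2661120 : ℕ) = 3 ^ 3 * 98560 by norm_num, Nat.factorization_mul (by norm_num) (by norm_num),
      Finsupp.add_apply, Nat.Prime.factorization_pow Nat.prime_three, Finsupp.single_eq_same,
      Nat.factorization_eq_zero_of_not_dvd (by norm_num), add_zero]
    norm_num)

theorem coe_sylowC [Fact (Nat.Prime 3)] {R : Subgroup G} (hRc : R ≤ cG z P) (h27 : Nat.card ↥R = 27) :
    ((sylowC hJ hRc h27 : Sylow 3 ↥(cG z P)) : Subgroup ↥(cG z P)) = R.subgroupOf (cG z P) := rfl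

/-- A central 3-element of the centraliser of `P` lies in each of its subgroups of order 27. -/
theorem central_mem {R : Subgroup G} (hRc : R ≤ cG z P) (h27 : Nat.card ↥R = 27) {s : G} (hs : s ∈ cG z P)
    (hcen : ∀ c ∈ cG z P, c * s = s * c) (h3 : s ^ 27 = 1) : s ∈ R := by
  haveI : Fact (Nat.Prime 3) := ⟨Nat.prime_three⟩
  set s' : ↥(cG z P) := ⟨s, hs⟩
  have hp : IsPGroup 3 ↥(zpowers s') := by
    have hd : orderOf s' ∣ 3 ^ 3 := by
      rw [Subgroup.orderOf_mk]
      exact orderOf_dvd_of_pow_eq_one (by norm_num; exact h3)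
    obtain ⟨k, -, hk⟩ := (Nat.dvd_prime_pow Nat.prime_three).1 hd
    exact IsPGroup.of_card (n := k) (by rw [Nat.card_zpowers, hk])
  obtain ⟨S, hS⟩ := hp.exists_le_sylow
  obtain ⟨g, hg⟩ := MulAction.exists_smul_eq ↥(cG z P) S (sylowC hJ hRc h27)
  have h : g * s' * g⁻¹ ∈ ((g • S : Sylow 3 ↥(cG z P)) : Subgroup ↥(cG z P)) :=
    ⟨s', hS (mem_zpowers s'), rfl⟩
  rw [hg, show g * s' * g⁻¹ = s' from mul_inv_eq_iff_eq_mul.2 (Subtype.ext (hcen g g.2))] at h
  exact h

theorem P_pow {p : G} (hp : p ∈ P) : p ^ 3 = 1 := by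
  have := congrArg Subtype.val (pow_card_eq_one' (x := (⟨p, hp⟩ : ↥P)))
  rwa [card_P hJ] at this

omit [Finite G] hJ in
theorem P_commute {p c : G} (hp : p ∈ P) (hc : c ∈ cG z P) : c * p = p * c :=
  (mem_centralizer_iff.1 hc.2 p hp).symm

/-- `P` lies in every subgroup of order 27 of its centraliser. -/
theorem P_le_three {R : Subgroup G} (hRc : R ≤ cG z P) (h27 : Nat.card ↥R = 27) : P ≤ R := fun p hp =>
  central_mem hJ hRc h27 (P_le_cG hJ hp) (fun _ hc => P_commute hp hc)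
    (by rw [show 27 = 3 * 9 by norm_num, pow_mul, P_pow hJ hp, one_pow])

/-- A subgroup of order 27 of the centraliser of `P` is not abelian. -/
theorem not_abelian_three {R : Subgroup G} (hRc : R ≤ cG z P) (h27 : Nat.card ↥R = 27) :
    ∃ x y : ↥R, x * y ≠ y * x := by
  by_contra hno
  push Not at hno
  haveI : Fact (Nat.Prime 3) := ⟨Nat.prime_three⟩
  obtain ⟨p, hp, hp1⟩ : ∃ p ∈ P, p ≠ 1 := by
    refine (P.bot_or_exists_ne_one).resolve_left fun h => ?_
    have := card_P hJ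
    rw [h, card_bot] at this
    omega
  have hindex : (R.subgroupOf (cG z P)).index = 98560 := by
    have h := (R.subgroupOf (cG z P)).card_mul_index
    rw [Nat.card_congr (subgroupOfEquivOfLe hRc).toEquiv, h27, card_cG hJ] at h
    omega
  set H := R.subgroupOf (cG z P) with hH
  letI : CommGroup ↥H :=
    { mul_comm := fun a b => Subtype.ext (Subtype.ext
        (congrArg Subtype.val (hno ⟨_, mem_subgroupOf.1 a.2⟩ ⟨_, mem_subgroupOf.1 b.2⟩) :)) }
  let τ : ↥(cG z P) →* ↥H := MonoidHom.transfer (MonoidHom.id ↥H)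
  set p' : ↥(cG z P) := ⟨p, P_le_cG hJ hp⟩
  have hkey : ∀ (k : ℕ) (g₀ : ↥(cG z P)), g₀⁻¹ * p' ^ k * g₀ ∈ H → g₀⁻¹ * p' ^ k * g₀ = p' ^ k :=
    fun k g₀ _ => by
      have hc : Commute g₀ p' := Subtype.ext (P_commute hp g₀.2)
      rw [mul_assoc, ← (hc.pow_right k).eq, inv_mul_cancel_left]
  have h1 : τ p' = ⟨p' ^ H.index, MonoidHom.transfer_eq_pow_aux p' hkey⟩ :=
    MonoidHom.transfer_eq_pow (MonoidHom.id ↥H) p' hkey
  have h2 : τ p' = 1 := by
    have hd := P_le_derived hJ hp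
    rw [← map_subtype_commutator (cG z P)] at hd
    obtain ⟨d, hd, hdp⟩ := hd
    obtain rfl : d = p' := Subtype.ext hdp
    exact MonoidHom.mem_ker.1 (Abelianization.commutator_subset_ker τ hd)
  have h3 : p ^ H.index = 1 :=
    congrArg (fun a : ↥H => ((a : ↥(cG z P)) : G)) (h1.symm.trans h2)
  rw [hindex] at h3
  refine hp1 ?_
  rwa [show 98560 = 3 * 32853 + 1 by norm_num, pow_succ, pow_mul, P_pow hJ hp, one_pow, one_mul] at h3

theorem extraspecial_three {R : Subgroup G} (hRc : R ≤ cG z P) (h27 : Nat.card ↥R = 27) :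
    IsExtraspecial 3 ↥R := by
  haveI : Fact (Nat.Prime 3) := ⟨Nat.prime_three⟩
  exact CfsgLib.PGroup.OrderPCubeExtra.isExtraspecial_of_card (by rw [h27]; norm_num) (not_abelian_three hJ hRc h27)

/-- The centre of a subgroup of order 27 of the centraliser of `P` is `P`. -/
theorem center_three {R : Subgroup G} (hRc : R ≤ cG z P) (h27 : Nat.card ↥R = 27) :
    (center ↥R).map R.subtype = P := by
  have hle : P ≤ (center ↥R).map R.subtype := fun p hp =>
    ⟨⟨p, P_le_three hJ hRc h27 hp⟩, mem_center_iff.2 fun r => Subtype.ext (P_commute hp (hRc r.2)), rfl⟩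
  refine (eq_of_le_of_card_ge hle ?_).symm
  rw [Subgroup.card_map_of_injective R.subtype_injective, (extraspecial_three hJ hRc h27).2, card_P hJ]

theorem pow_three {R : Subgroup G} (hRc : R ≤ cG z P) (h27 : Nat.card ↥R = 27) {x : G} (hx : x ∈ R) :
    x ^ 3 = 1 := by
  haveI : Fact (Nat.Prime 3) := ⟨Nat.prime_three⟩
  obtain ⟨χ, hs, hk⟩ := exists_psi hJ
  have hker : ∀ c : ↥(cG z P), χ c = 1 ↔ (c : G) ∈ sG z P := fun c => by
    rw [← MonoidHom.mem_ker, hk, mem_subgroupOf]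
  have h6 : ∀ s ∈ sG z P, s ^ 6 = 1 := fun s hs => by
    have := congrArg Subtype.val (pow_card_eq_one' (x := (⟨s, hs⟩ : ↥(sG z P))))
    rwa [card_sG hJ] at this
  have hx27 : x ^ 27 = 1 := by
    have := congrArg Subtype.val (pow_card_eq_one' (x := (⟨x, hx⟩ : ↥R)))
    rwa [h27] at this
  set x' : ↥(cG z P) := ⟨x, hRc hx⟩
  set y := χ x'
  by_cases hy : y = 1
  · have h := h6 x ((hker x').1 hy)
    simpa using pow_gcd_eq_one.mpr ⟨hx27, h⟩
  have hy3 : orderOf y = 3 := by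
    have hd : orderOf y ∣ 3 ^ 3 := orderOf_dvd_of_pow_eq_one (by
      rw [← map_pow, show x' ^ (3 ^ 3) = 1 from Subtype.ext (by push_cast; norm_num; exact hx27), map_one])
    obtain ⟨k, hk3, hk'⟩ := (Nat.dvd_prime_pow Nat.prime_three).1 hd
    have h9 := (m22_three ((sylowC hJ hRc h27).mapSurjective hs)).2.1
    interval_cases k
    · exact absurd (orderOf_eq_one_iff.1 (by simpa using hk')) hy
    · simpa using hk'
    · exact absurd (by simpa using hk') (h9 y)
    · exfalso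
      refine h9 (y ^ 3) ?_
      rw [orderOf_pow, hk']
      norm_num
  have hy2 : orderOf (y ^ 2) = 3 := by rw [orderOf_pow, hy3]; norm_num
  obtain ⟨c', hc'⟩ := isConj_iff.1 ((m22_three ((sylowC hJ hRc h27).mapSurjective hs)).2.2 y (y ^ 2) hy3 hy2)
  obtain ⟨c, rfl⟩ := hs c'
  have hsm : ((x' ^ 2)⁻¹ * (c * x' * c⁻¹) : ↥(cG z P)) ∈ χ.ker := by
    rw [MonoidHom.mem_ker]
    simp only [map_mul, map_inv, map_pow]
    rw [hc', inv_mul_cancel]
  rw [hk, mem_subgroupOf] at hsm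
  push_cast at hsm
  set s := (x ^ 2)⁻¹ * ((c : G) * x * (c : G)⁻¹) with hsdef
  have hx3 : x ^ 3 ∈ sG z P := by
    refine (hker (x' ^ 3)).1 ?_
    rw [map_pow, ← hy3]
    exact pow_orderOf_eq_one y
  have hconj : (c : G) * x * (c : G)⁻¹ = x ^ 2 * s := by rw [hsdef, mul_inv_cancel_left]
  have e : x ^ 3 = x ^ 6 * s ^ 3 := by
    have h1 : ((c : G) * x * (c : G)⁻¹) ^ 3 = (c : G) * x ^ 3 * (c : G)⁻¹ := by rw [conj_pow]
    have hcomm : Commute (x ^ 2) s := sG_central hJ hsm ((cG z P).pow_mem (hRc hx) 2)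
    rw [hconj, hcomm.mul_pow, ← pow_mul, sG_central hJ hx3 c.2, mul_inv_cancel_right] at h1
    exact h1.symm
  have e' : x ^ 3 = (s ^ 3)⁻¹ := by
    rw [show x ^ 6 = x ^ 3 * x ^ 3 by rw [← pow_add], mul_assoc, eq_comm, mul_eq_left] at e
    exact eq_inv_of_mul_eq_one_left e
  have hq2 : (x ^ 3) ^ 2 = 1 := by rw [e', inv_pow, ← pow_mul, h6 s hsm, inv_one]
  have hq9 : (x ^ 3) ^ 9 = 1 := by rw [← pow_mul]; exact hx27
  simpa using pow_gcd_eq_one.mpr ⟨hq2, hq9⟩

theorem exponent_three {R : Subgroup G} (hRc : R ≤ cG z P) (h27 : Nat.card ↥R = 27) :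
    Monoid.exponent ↥R = 3 := by
  haveI : Fact (Nat.Prime 3) := ⟨Nat.prime_three⟩
  haveI : Nontrivial ↥R := Finite.one_lt_card_iff_nontrivial.1 (by rw [h27]; norm_num)
  rcases (Nat.dvd_prime Nat.prime_three).1 (Monoid.exponent_dvd_of_forall_pow_eq_one
    fun x : ↥R => Subtype.ext (pow_three hJ hRc h27 x.2)) with h | h
  · exact absurd (Monoid.exp_eq_one_iff.1 h) (not_subsingleton ↥R)
  · exact h

/-- The normaliser of `R` normalises its centre `P`. -/
theorem normalizer_le_P {R : Subgroup G} (hRc : R ≤ cG z P) (h27 : Nat.card ↥R = 27) :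
    normalizer (R : Set G) ≤ normalizer (P : Set G) := by
  have hmem : ∀ a, a ∈ P ↔ a ∈ R ∧ ∀ r ∈ R, r * a = a * r := fun a => by
    constructor
    · exact fun ha => ⟨P_le_three hJ hRc h27 ha, fun r hr => P_commute ha (hRc hr)⟩
    · rintro ⟨ha, hc⟩
      rw [← center_three hJ hRc h27]
      exact ⟨⟨a, ha⟩, mem_center_iff.2 fun r => Subtype.ext (hc r r.2), rfl⟩
  have key : ∀ g ∈ normalizer (R : Set G), ∀ a ∈ P, g * a * g⁻¹ ∈ P := fun g hg a ha => by
    rw [hmem] at ha ⊢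
    refine ⟨(mem_normalizer_iff.1 hg a).1 ha.1, fun r hr => ?_⟩
    have h := ha.2 (g⁻¹ * r * g) ((mem_normalizer_iff.1 hg _).2 (by
      rwa [show g * (g⁻¹ * r * g) * g⁻¹ = r by group]))
    calc r * (g * a * g⁻¹) = g * ((g⁻¹ * r * g) * a) * g⁻¹ := by group
      _ = g * (a * (g⁻¹ * r * g)) * g⁻¹ := by rw [h]
      _ = g * a * g⁻¹ * r := by group
  exact fun g hg => mem_normalizer_of_conj_mem (key g hg)

/-- The part of the normaliser of `R` in the centraliser of `P` has order 432. -/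
theorem card_normalizer_cG {R : Subgroup G} (hRc : R ≤ cG z P) (h27 : Nat.card ↥R = 27) :
    Nat.card ↥(cG z P ⊓ normalizer (R : Set G) : Subgroup G) = 432 := by
  haveI : Fact (Nat.Prime 3) := ⟨Nat.prime_three⟩
  obtain ⟨χ, hs, hk⟩ := exists_psi hJ
  set S := (sylowC hJ hRc h27).mapSurjective hs with hS
  set M := normalizer ((S : Subgroup ↥Cfsg.Spor.M22) : Set ↥Cfsg.Spor.M22)
  have hScoe : (S : Subgroup ↥Cfsg.Spor.M22) = (R.subgroupOf (cG z P)).map χ := rfl
  have heq : (cG z P ⊓ normalizer (R : Set G)).subgroupOf (cG z P) = M.comap χ := by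
    ext g
    rw [mem_subgroupOf, mem_inf, and_iff_right g.2, mem_comap]
    constructor
    · intro hg
      refine le_normalizer_map χ (H := R.subgroupOf (cG z P)) ⟨g, ?_, rfl⟩
      exact mem_normalizer_iff.2 fun a => by
        rw [mem_subgroupOf, mem_subgroupOf]; exact mem_normalizer_iff.1 hg a
    · intro hg
      refine mem_normalizer_of_conj_mem fun r hr => ?_
      have h : χ g * χ ⟨r, hRc hr⟩ * (χ g)⁻¹ ∈ (S : Subgroup ↥Cfsg.Spor.M22) :=
        (mem_normalizer_iff.1 hg _).1 (hScoe ▸ ⟨⟨r, hRc hr⟩, hr, rfl⟩)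
      rw [hScoe] at h
      obtain ⟨r', hr', e⟩ := h
      have hm : r'⁻¹ * (g * ⟨r, hRc hr⟩ * g⁻¹) ∈ χ.ker := by
        rw [MonoidHom.mem_ker, map_mul, map_inv, map_mul, map_mul, map_inv, e, inv_mul_cancel]
      rw [hk, mem_subgroupOf] at hm
      push_cast at hm
      have hpow : ∀ {b : G}, b ∈ R → b ^ 27 = 1 := fun {b} hb => by
        have := congrArg Subtype.val (pow_card_eq_one' (x := (⟨b, hb⟩ : ↥R)))
        rwa [h27] at this
      set s := (r' : G)⁻¹ * ((g : G) * r * (g : G)⁻¹) with hsdef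
      have hgr : (g : G) * r * (g : G)⁻¹ = r' * s := by rw [hsdef, mul_inv_cancel_left]
      have hs27 : s ^ 27 = 1 := by
        have h1 : ((g : G) * r * (g : G)⁻¹) ^ 27 = 1 := by rw [conj_pow, hpow hr, mul_one, mul_inv_cancel]
        have hcomm : Commute (r' : G) s := sG_central hJ hm r'.2
        rwa [hgr, hcomm.mul_pow, hpow (show (r' : G) ∈ R from hr'), one_mul] at h1
      rw [hgr]
      exact mul_mem hr' (central_mem hJ hRc h27 (sG_le_cG hJ hm) (fun c hc => sG_central hJ hm hc) hs27)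
  rw [← Nat.card_congr (subgroupOfEquivOfLe (inf_le_left : cG z P ⊓ normalizer (R : Set G) ≤ cG z P)).toEquiv, heq]
  have hle : χ.ker ≤ M.comap χ := fun a ha => by rw [mem_comap, MonoidHom.mem_ker.1 ha]; exact one_mem _
  have h1 := (M.comap χ).card_mul_index
  rw [index_comap_of_surjective M hs, card_cG hJ] at h1
  have h2 := M.card_mul_index
  rw [(m22_three S).1, card_M22] at h2
  have h3 : M.index = 6160 := by omega
  rw [h3] at h1
  omega

/-- Some element of `N_H(P)` outside `C_H(P)` normalises `R`. -/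
theorem exists_normalizer_out {R : Subgroup G} (hRc : R ≤ cG z P) (h27 : Nat.card ↥R = 27) :
    ∃ a ∈ lG z P, a ∉ cG z P ∧ a ∈ normalizer (R : Set G) := by
  haveI : Fact (Nat.Prime 3) := ⟨Nat.prime_three⟩
  have hi := index_cG hJ
  obtain ⟨⟨a, ha⟩, hna⟩ : ∃ a : ↥(lG z P), a ∉ (cG z P).subgroupOf (lG z P) := by
    by_contra h
    push Not at h
    rw [(eq_top_iff.2 fun a _ => h a : (cG z P).subgroupOf (lG z P) = ⊤), index_top] at hi
    omega
  rw [mem_subgroupOf] at hna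
  have hRa : R.map (MulAut.conj a).toMonoidHom ≤ cG z P := by
    rintro _ ⟨r, hr, rfl⟩
    exact mem_subgroupOf.1 ((normal_of_index_eq_two hi).conj_mem ⟨r, cG_le_lG (hRc hr)⟩
      (mem_subgroupOf.2 (hRc hr)) ⟨a, ha⟩)
  have h27a : Nat.card ↥(R.map (MulAut.conj a).toMonoidHom) = 27 := by
    rw [Subgroup.card_map_of_injective (f := (MulAut.conj a).toMonoidHom) (MulAut.conj a).injective, h27]
  obtain ⟨c, hc⟩ := MulAction.exists_smul_eq ↥(cG z P) (sylowC hJ hRa h27a) (sylowC hJ hRc h27)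
  refine ⟨(c : G) * a, mul_mem (cG_le_lG c.2) ha, fun h => hna ?_,
    mem_normalizer_of_conj_mem fun r hr => ?_⟩
  · simpa using mul_mem (inv_mem c.2) h
  · have hmem : a * r * a⁻¹ ∈ R.map (MulAut.conj a).toMonoidHom := ⟨r, hr, rfl⟩
    have h : c * ⟨a * r * a⁻¹, hRa hmem⟩ * c⁻¹ ∈ ((c • sylowC hJ hRa h27a : Sylow 3 ↥(cG z P)) : Subgroup ↥(cG z P)) :=
      ⟨⟨_, hRa hmem⟩, hmem, rfl⟩
    rw [hc] at h
    have h' : (c : G) * (a * r * a⁻¹) * (c : G)⁻¹ ∈ R := h
    rwa [show (c : G) * a * r * ((c : G) * a)⁻¹ = (c : G) * (a * r * a⁻¹) * (c : G)⁻¹ by group]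

/-- The structure of a Sylow 3-subgroup of the centraliser of `P`. -/
theorem structure_three (hN : normalizer (P : Set G) ≤ hG z) {R : Subgroup G} (hRc : R ≤ cG z P)
    (h27 : Nat.card ↥R = 27) :
    normalizer (R : Set G) ≤ hG z ∧ Nat.card ↥(normalizer (R : Set G)) = 864 := by
  have hP := normalizer_le_P hJ hRc h27
  refine ⟨hP.trans hN, ?_⟩
  have hle : normalizer (R : Set G) ≤ lG z P := le_inf (hP.trans hN) hP
  set NR := normalizer (R : Set G) with hNR
  have hind : ((cG z P).subgroupOf NR).index = 2 := by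
    obtain ⟨a, ha, hna, haR⟩ := exists_normalizer_out hJ hRc h27
    refine index_eq_two_iff.2 ⟨⟨a, haR⟩, fun ⟨b, hb⟩ => ?_⟩
    have h := mul_mem_iff_of_index_two (index_cG hJ) (a := (⟨b, hle hb⟩ : ↥(lG z P))) (b := ⟨a, ha⟩)
    simp only [mem_subgroupOf, Subgroup.coe_mul] at h ⊢
    by_cases hbc : b ∈ cG z P
    · exact Or.inr ⟨hbc, fun h' => hna ((h.1 h').1 hbc)⟩
    · exact Or.inl ⟨h.2 ⟨fun h' => absurd h' hbc, fun h' => absurd h' hna⟩, hbc⟩
  rw [← ((cG z P).subgroupOf NR).card_mul_index, hind, ← inf_subgroupOf_right,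
    Nat.card_congr (subgroupOfEquivOfLe inf_le_right).toEquiv, card_normalizer_cG hJ hRc h27]

/-- A Sylow 3-subgroup of `G` in `C(z)` is conjugate in `C(z)` to one centralising `P`. -/
theorem exists_conj_cG (R : Sylow 3 G) (hR : (R : Subgroup G) ≤ hG z) :
    ∃ h ∈ hG z, ∃ R₀ : Subgroup G, R₀ ≤ cG z P ∧ Nat.card ↥R₀ = 27 ∧
      (R : Subgroup G) = R₀.map (MulAut.conj h).toMonoidHom := by
  haveI : Fact (Nat.Prime 3) := ⟨Nat.prime_three⟩
  obtain ⟨S⟩ : Nonempty (Sylow 3 ↥(cG z P)) := inferInstance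
  set R₀ := (S : Subgroup ↥(cG z P)).map (cG z P).subtype
  have hR₀ : R₀ ≤ cG z P := map_subtype_le _
  have h27 : Nat.card ↥R₀ = 27 := by
    rw [Subgroup.card_map_of_injective (cG z P).subtype_injective, S.card_eq_multiplicity, card_cG hJ,
      show (2661120 : ℕ) = 3 ^ 3 * 98560 by norm_num, Nat.factorization_mul (by norm_num) (by norm_num),
      Finsupp.add_apply, Nat.Prime.factorization_pow Nat.prime_three, Finsupp.single_eq_same,
      Nat.factorization_eq_zero_of_not_dvd (by norm_num), add_zero]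
    norm_num
  obtain ⟨T, hT⟩ := (isPGroup_of_card_27 h27).exists_le_sylow
  have hTR : Nat.card ↥(T : Subgroup G) = Nat.card ↥(R : Subgroup G) := by
    rw [T.card_eq_multiplicity, R.card_eq_multiplicity]
  have hle := card_le_of_le_hG hJ R.isPGroup' hR
  have hT' : R₀ = (T : Subgroup G) := eq_of_le_of_card_ge hT (by omega)
  have hR₀H : R₀ ≤ hG z := hR₀.trans inf_le_left
  obtain ⟨h, hh⟩ := MulAction.exists_smul_eq ↥(hG z) (T.subtype (hT' ▸ hR₀H)) (R.subtype hR)
  refine ⟨h, h.2, R₀, hR₀, h27, ?_⟩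
  have e := congrArg (fun U : Sylow 3 ↥(hG z) => (U : Subgroup ↥(hG z)).map (hG z).subtype) hh
  simp only [Sylow.coe_subgroup_smul, Sylow.coe_subtype] at e
  rw [map_subgroupOf_eq_of_le hR] at e
  rw [← e, hT']
  ext g
  constructor
  · rintro ⟨_, ⟨a, ha, rfl⟩, rfl⟩
    exact ⟨(a : G), ha, rfl⟩
  · rintro ⟨a, ha, rfl⟩
    exact ⟨_, ⟨⟨a, hR₀H (hT' ▸ ha)⟩, ha, rfl⟩, rfl⟩

/-- The Sylow 3-subgroups of a group of Janko-four type inside `C(z)`. -/
theorem sylow_three (hN : normalizer (P : Set G) ≤ hG z) (R : Sylow 3 G) (hR : (R : Subgroup G) ≤ hG z) :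
    IsExtraspecial 3 ↥(R : Subgroup G) ∧ Nat.card ↥(R : Subgroup G) = 27 ∧
      Monoid.exponent ↥(R : Subgroup G) = 3 ∧ normalizer ((R : Subgroup G) : Set G) ≤ hG z ∧
      Nat.card ↥(normalizer ((R : Subgroup G) : Set G)) = 864 := by
  haveI : Fact (Nat.Prime 3) := ⟨Nat.prime_three⟩
  obtain ⟨h, hh, R₀, hR₀, h27, e⟩ := exists_conj_cG hJ R hR
  rw [e]
  have hinj : Function.Injective (MulAut.conj h).toMonoidHom := (MulAut.conj h).injective
  let ε := R₀.equivMapOfInjective _ hinj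
  obtain ⟨hNH, h864⟩ := structure_three hJ hN hR₀ h27
  obtain ⟨x, y, hxy⟩ := not_abelian_three hJ hR₀ h27
  have hc : Nat.card ↥(R₀.map (MulAut.conj h).toMonoidHom) = 27 := by
    rw [Subgroup.card_map_of_injective hinj, h27]
  refine ⟨CfsgLib.PGroup.OrderPCubeExtra.isExtraspecial_of_card (by rw [hc]; norm_num)
    ⟨ε x, ε y, fun k => hxy (ε.injective (by rw [map_mul, map_mul, k]))⟩, hc, ?_, ?_, ?_⟩
  · rw [← Monoid.exponent_eq_of_mulEquiv ε, exponent_three hJ hR₀ h27]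
  · rw [← map_equiv_normalizer_eq]
    rintro _ ⟨g, hg, rfl⟩
    exact mul_mem (mul_mem hh (hNH hg)) (inv_mem hh)
  · rw [← map_equiv_normalizer_eq, Subgroup.card_map_of_injective hinj, h864]

end CfsgLib.Sporadic.JankoFourType
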