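import Cfsg.Agent.Lib.Sporadic.JankoFourType.Fusion
import Cfsg.Agent.Lib.Sporadic.JankoFourType.Three

/-!
# Groups of Janko-four type: the subgroup of order three
-/

set_option autoImplicit false
set_option linter.style.haveILetI false
set_option linter.unusedSectionVars false

namespace CfsgLib.Sporadic.JankoFourType

open Cfsg Subgroup CfsgLib.Sporadic.LargeFischer CfsgLib.Sporadic.LargeFischer.Hexa CfsgLib.Sporadic.J4Type

/-- The small involutions of the subgroup of order `2¹¹` have their centralisers in its normaliser. -/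
def SmallCent (G : Type*) [Group G] [Finite G] (z : G) : Prop :=
  ∀ (π : G → V6) (ψ : ↥(centralizer ({z} : Set G)) →* (V6 ≃ₗ[ZMod 2] V6)) (x : ↥(centralizer ({z} : Set G)))
    (_ : JF z π ψ x) (F : Frame z (pCore 2 ↥(centralizer ({z} : Set G))) π ψ x)
    (c : Fin 4 → ↥(centralizer ({z} : Set G))) (L : Lifts ψ x c), Normal F L →
    ∀ t ∈ F.asub L, t ≠ 1 → ¬ IsConj z t → centralizer ({t} : Set G) ≤ normalizer (F.asub L : Set G)

theorem main {G : Type*} [Group G] [Finite G] [IsSimpleGroup G] {z : G} {P : Subgroup G}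
    (hJ : IsOfJankoFourTypeWith z P) (hS : SmallCent G z) :
    ⁅cG z P, cG z P⁆ = cG z P ∧ normalizer (P : Set G) ≤ hG z := by
  obtain ⟨π, ψ, x, J, hP⟩ := exists_coords hJ
  have F := frame J
  have hU : UniqAb G := uniqAb (Q := pCore 2 ↥(centralizer ({z} : Set G))) J.base (maxAb J)
  obtain ⟨c, L, hN⟩ := F.exists_normal hU
  exact ⟨perfect_of_mem hJ (z_mem_derived F hP L hJ hN),
    normalizer_le F hP hJ hN hU (hS π ψ x J F c L hN)⟩

theorem sylow_three' {G : Type*} [Group G] [Finite G] [IsSimpleGroup G] {z : G}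
    (hJ : IsOfJankoFourTypeAt z) (hS : SmallCent G z) (R : Sylow 3 G) (hR : (R : Subgroup G) ≤ hG z) :
    IsExtraspecial 3 ↥(R : Subgroup G) ∧ Nat.card ↥(R : Subgroup G) = 27 ∧
      Monoid.exponent ↥(R : Subgroup G) = 3 ∧
      normalizer ((R : Subgroup G) : Set G) ≤ hG z ∧
      Nat.card ↥(normalizer ((R : Subgroup G) : Set G)) = 864 := by
  obtain ⟨P, hP⟩ := hJ
  exact sylow_three hP (main hP hS).2 R hR

end CfsgLib.Sporadic.JankoFourType
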