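import Cfsg.Agent.Lib.Sporadic.JankoFourType.Coords

/-!
# Groups of Janko-four type: the centraliser of `P` in `H` is perfect

In the elementary abelian group of order `2¹¹` the elements centralised by `x` are the 32 elements without a
component in the hexacode.  If the derived group of `C_H(P)` had index two, the small involutions among them would
lie all inside it or all outside, and two triples of small involutions with products `1` and `z` decide.
-/

set_option autoImplicit false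
set_option linter.style.haveILetI false
set_option linter.unusedSectionVars false
set_option maxRecDepth 40000

namespace CfsgLib.Sporadic.JankoFourType

open scoped commutatorElement
open Cfsg Subgroup CfsgLib.Sporadic.LargeFischer CfsgLib.Sporadic.LargeFischer.Hexa

/-- The code of the small element over `u`. -/
def su (u : ℕ) : ℕ := u + if sgnB u then 16 else 0

theorem sX_fix : ∀ n : Fin 2048, sX n.1 = n.1 ↔ n.1 < 32 := by decide +kernel

theorem sX_lt (n : ℕ) (hn : n < 2048) : sX n < 2048 :=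
  (ce_mkc ⟨n % 16, Nat.mod_lt _ (by norm_num)⟩ (n.testBit 4)
    ⟨ok (n / 32), (omV_wv (show n / 32 < 64 by omega)).1⟩).2.2.2

theorem mkc_z : mkc 0 true 0 = 16 := rfl

theorem su_facts : (∀ u : Fin 16, su u.1 < 32 ∧ su u.1 % 16 = u.1 ∧ (u.1 ≠ 0 → inD sgnB (su u.1) = true)) ∧
    (∀ m : Fin 32, m.1 % 16 ≠ 0 → inD sgnB m.1 = true → su (m.1 % 16) = m.1) ∧
    (∀ (j : Fin 2) (u : Fin 16) (l : Bool), Hexa.sG j l (su u.1) < 32 ∧ Hexa.sG j l (su u.1) % 16 = gu j u.1) ∧
    su 1 ^^^ su 2 = su 3 ∧ su 3 ^^^ su 4 ^^^ su 7 = 16 := by decide +kernel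

/-- Facts about the 32 codes. -/
theorem big_facts : (∀ b : Fin 32, b.1 ≠ 0 → b.1 ≠ 16 → inD sgnB b.1 = false →
      ∃ v : Fin 32, inD sgnB v.1 = true ∧ inD sgnB (b.1 ^^^ v.1) = true) ∧
    (∀ v : Fin 32, inD sgnB v.1 = true → inD sgnB (16 ^^^ v.1) = false ∧ 16 ^^^ v.1 ≠ 0) ∧
    inD sgnB 0 = false ∧ inD sgnB 16 = false ∧ inD sgnB 1 = true ∧ inD sgnB 2 = true ∧ inD sgnB 3 = true := by
  decide +kernel

variable {G : Type*} [Group G] [Finite G] {z : G} {P : Subgroup G}
  {Q : Subgroup (centralizer ({z} : Set G))} [Q.Normal]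
  {π : G → V6} {ψ : ↥(centralizer ({z} : Set G)) →* (V6 ≃ₗ[ZMod 2] V6)}
  {x : ↥(centralizer ({z} : Set G))} (F : Frame z Q π ψ x) (hP : P = zpowers (x : G))
  {c : Fin 4 → ↥(centralizer ({z} : Set G))} (L : Lifts ψ x c)

include hP in
theorem mem_centralizer_P {g : G} : g ∈ centralizer (P : Set G) ↔ Commute g (x : G) := by
  rw [hP, mem_centralizer_iff]
  refine ⟨fun h => (h _ (mem_zpowers _)).symm, ?_⟩
  rintro h _ ⟨i, rfl⟩
  exact (h.zpow_right i).eq.symm

include hP in
theorem mem_cG_iff {g : G} : g ∈ cG z P ↔ g * z = z * g ∧ Commute g (x : G) := by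
  show g ∈ hG z ∧ g ∈ centralizer (P : Set G) ↔ _
  rw [mem_hG, mem_centralizer_P hP]

theorem el_sixteen : F.el L 16 = z := by
  rw [← mkc_z, F.el_mkc L (by norm_num) true (by norm_num)]
  simp [cpr, Hexa.bv, zp_one, F.rho_zero]

include hP in
theorem el_mem_cG_iff {n : ℕ} (hn : n < 2048) : F.el L n ∈ cG z P ↔ n < 32 := by
  rw [mem_cG_iff hP, ← sX_fix ⟨n, hn⟩]
  constructor
  · rintro ⟨-, h⟩
    refine F.el_inj L (sX_lt n hn) hn ?_
    rw [← F.el_scal L hn]
    exact mul_inv_eq_iff_eq_mul.2 h.symm.eq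
  · intro h
    refine ⟨F.el_cent L n, ?_⟩
    have e := F.el_scal L hn
    rw [show sX n = n from h, mul_inv_eq_iff_eq_mul] at e
    exact e.symm

theorem z_ne (hJ : IsOfJankoFourTypeWith z P) : z ≠ 1 := fun e => by
  have := orderOf_z hJ
  rw [e, orderOf_one] at this
  omega

include hP in
/-- The derived group of the centraliser of `P` contains `z`. -/
theorem z_mem_derived (hJ : IsOfJankoFourTypeWith z P) (hN : Normal F L) :
    z ∈ ⁅cG z P, cG z P⁆ := by
  classical
  set D := ⁅cG z P, cG z P⁆ with hD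
  by_contra hz
  obtain ⟨f1, f2, f3, f12, f347⟩ := su_facts
  have hmem : ∀ u, u < 16 → F.el L (su u) ∈ cG z P := fun u hu =>
    (el_mem_cG_iff F hP L ((show su u < 32 from (f1 ⟨u, hu⟩).1).trans (by norm_num))).2 (f1 ⟨u, hu⟩).1
  have hnorm : ∀ {y d : G}, y ∈ cG z P → d ∈ D → y * d * y⁻¹ ∈ D := fun {y d} hy hd => by
    have hd' : d ∈ cG z P := commutator_le_self _ hd
    rw [show y * d * y⁻¹ = ⁅y, d⁆ * d by rw [commutatorElement_def]; group]
    exact mul_mem (commutator_mem_commutator hy hd') hd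
  -- conjugation by the monomial maps
  have hstep : ∀ i a, a < 16 ∧ a ≠ 0 →
      decide (F.el L (su (gu (Fin.ofNat 2 i) a)) ∈ D) = decide (F.el L (su a) ∈ D) := by
    intro i a ha
    set j := Fin.ofNat 2 i
    obtain ⟨y, hy, ey⟩ := F.exists_gen_lift j
    obtain ⟨l, -, hl⟩ := F.el_gen L j hy ey
    obtain ⟨g1, g2, g3⟩ := f1 ⟨a, ha.1⟩
    simp only at g1 g2 g3
    have e := hl (su a) (by omega)
    obtain ⟨k1, k2⟩ := f3 j ⟨a, ha.1⟩ (l (cu (su a)))
    simp only at k1 k2
    have hne : Hexa.sG j (l (cu (su a))) (su a) % 16 ≠ 0 := by rw [k2]; exact gu_ne j ⟨a, ha.1⟩ ha.2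
    have hsm : inD sgnB (Hexa.sG j (l (cu (su a))) (su a)) = true := by
      have h1 := (hN.small (su a) (by omega)).2 (Or.inr (g3 ha.2))
      rw [← isConj_conj_iff (y : G), e] at h1
      rcases (hN.small _ (by omega)).1 h1 with h2 | h2
      · rw [h2] at hne
        simp at hne
      · exact h2
    have h3 := f2 ⟨_, k1⟩ hne hsm
    simp only at h3
    rw [k2] at h3
    rw [h3, ← e]
    have hyC : (y : G) ∈ cG z P := (mem_cG_iff hP).2 ⟨F.z_comm' y, congrArg Subtype.val hy.eq⟩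
    refine decide_eq_decide.2 ⟨fun h => ?_, hnorm hyC⟩
    have := hnorm (inv_mem hyC) h
    rwa [inv_inv, show (y : G)⁻¹ * ((y : G) * F.el L (su a) * (y : G)⁻¹) * y = F.el L (su a) by group] at this
  have hconst : ∀ b, b < 16 → b ≠ 0 → (F.el L (su b) ∈ D ↔ F.el L (su 1) ∈ D) := fun b hb hb0 => by
    have := (walk_inv (fun i a => gu (Fin.ofNat 2 i) a) (fun a => a < 16 ∧ a ≠ 0)
      (fun a => decide (F.el L (su a) ∈ D))
      (fun i a ha => ⟨gu_lt _ ha.1, gu_ne (Fin.ofNat 2 i) ⟨a, ha.1⟩ ha.2⟩) hstep (guWord b) 1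
      ⟨by norm_num, one_ne_zero⟩).2
    rw [(guWord_ok ⟨b, hb⟩ hb0).2] at this
    exact decide_eq_decide.1 this
  have hmul : ∀ a b, a < 32 → b < 32 → F.el L (a ^^^ b) = F.el L a * F.el L b := fun a b ha hb =>
    F.el_xor L (by omega) (by omega)
  have lt : ∀ u : ℕ, u < 16 → su u < 32 := fun u hu => (f1 ⟨u, hu⟩).1
  have h1 : F.el L (su 1) ∈ D := by
    by_contra h
    have h2 : F.el L (su 2) ∉ D := fun h2 => h ((hconst 2 (by norm_num) (by norm_num)).1 h2)
    have a1 := (derived_cases hJ (hmem 1 (by norm_num))).resolve_left h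
    have a2 := (derived_cases hJ (hmem 2 (by norm_num))).resolve_left h2
    refine h ((hconst 3 (by norm_num) (by norm_num)).1 ?_)
    rw [← f12, hmul _ _ (lt 1 (by norm_num)) (lt 2 (by norm_num))]
    have h12 := mul_mem a1 a2
    rwa [show F.el L (su 1) * z * (F.el L (su 2) * z) = F.el L (su 1) * F.el L (su 2) * (z * z) by
        rw [mul_assoc (F.el L (su 1)) z, ← mul_assoc z, ← F.el_cent L (su 2)]; simp only [mul_assoc],
      F.lf.extra.z_sq, mul_one] at h12
  refine hz ?_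
  rw [← el_sixteen F L, ← f347, hmul _ _ (Nat.xor_lt_two_pow (n := 5) (lt 3 (by norm_num)) (lt 4 (by norm_num))) (lt 7 (by norm_num)),
    hmul _ _ (lt 3 (by norm_num)) (lt 4 (by norm_num))]
  exact mul_mem (mul_mem ((hconst 3 (by norm_num) (by norm_num)).2 h1)
    ((hconst 4 (by norm_num) (by norm_num)).2 h1)) ((hconst 7 (by norm_num) (by norm_num)).2 h1)

end CfsgLib.Sporadic.JankoFourType
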