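import Cfsg.Agent.Lib.Sporadic.JankoFourType.FromOrbits
import Cfsg.Agent.S5568

/-!
# Groups of Janko-four type: centralisers of the small involutions
-/

set_option autoImplicit false

namespace CfsgLib.Sporadic.JankoFourType

theorem smallCent {G : Type*} [Group G] [Finite G] [IsSimpleGroup G] (hG : ¬ IsMulCommutative G) {z : G}
    (hJ : Cfsg.IsOfJankoFourTypeAt z) : SmallCent G z :=
  smallCent_of fun V hV hc => by
    obtain ⟨_, t, -, htV, ht1, -, htz, -, -, hle⟩ := Cfsg.Agent.S5568.result hG z hJ V hV hc
    exact ⟨t, htV, ht1, htz, hle⟩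

end CfsgLib.Sporadic.JankoFourType
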